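import Mathlib
import Cfsg.Prelude.Def_LinearParabolics

set_option autoImplicit false

/-!
Double cosets of standard parabolic subgroups of `GL_n` over a finite field correspond to double
cosets of Young subgroups of the symmetric group.
-/

namespace Cfsg.Agent.GLUnipotent

open Matrix

universe u
variable {n : ℕ} {F : Type u} [Field F]

local notation "Mat" => Matrix (Fin n) (Fin n) F

/-- Permutation matrices: column `j` is the basis vector at `w j`. -/
def permGL : Equiv.Perm (Fin n) →* GL (Fin n) F where
  toFun w :=
    { val := Matrix.of fun i j => if i = w j then 1 else 0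
      inv := Matrix.of fun i j => if w i = j then 1 else 0
      val_inv := by
        ext i k
        rw [Matrix.mul_apply, Finset.sum_eq_single (w.symm i)]
        · simp [Matrix.one_apply]
        · intro j _ hj
          have : i ≠ w j := fun e => hj (by simp [e])
          simp [this]
        · simp
      inv_val := by
        ext i k
        rw [Matrix.mul_apply, Finset.sum_eq_single (w i)]
        · simp [Matrix.one_apply]
        · intro j _ hj
          simp [Ne.symm hj]
        · simp }
  map_one' := Units.ext (by ext i j; simp [Matrix.one_apply] <;> congr)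
  map_mul' w v := Units.ext (by
    ext i k
    simp [Matrix.mul_apply, Equiv.Perm.mul_apply] <;> congr)

theorem permGL_apply (w : Equiv.Perm (Fin n)) (i j : Fin n) :
    (permGL w : GL (Fin n) F).val i j = if i = w j then 1 else 0 := rfl

theorem permGL_mulVec (w : Equiv.Perm (Fin n)) (v : Fin n → F) (j : Fin n) :
    ((permGL w : GL (Fin n) F).val *ᵥ v) (w j) = v j := by
  simp [Matrix.mulVec, dotProduct, permGL_apply]

theorem permGL_mem (a : Fin n → ℕ) {w : Equiv.Perm (Fin n)} (hw : ∀ i, a (w i) = a i) :
    (permGL w : GL (Fin n) F).val.BlockTriangular a := by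
  intro i j hij
  rw [permGL_apply, if_neg]
  rintro rfl
  rw [hw] at hij
  exact lt_irrefl _ hij

theorem exists_bruhat [Finite F] (g : GL (Fin n) F) :
    ∃ (w : Equiv.Perm (Fin n)) (p q : GL (Fin n) F),
      p.val.BlockTriangular id ∧ q.val.BlockTriangular id ∧ g = p * permGL w * q := by
  classical
  -- columns of `g` after clearing by earlier columns
  let S : Fin n → Set (Fin n → F) := fun j =>
    {v | ∃ c : Fin n → F, (∀ k, j ≤ k → c k = Pi.single (M := fun _ => F) j 1 k) ∧ v = g.val *ᵥ c}
  have hne : ∀ j, ∀ v ∈ S j, v ≠ 0 := by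
    rintro j v ⟨c, hc, rfl⟩ h0
    have h1 := congrArg (fun x => ((g⁻¹ : GL (Fin n) F).val) *ᵥ x) h0
    simp only [Matrix.mulVec_mulVec, Units.inv_mul, Matrix.one_mulVec, Matrix.mulVec_zero] at h1
    have := hc j le_rfl
    rw [h1] at this
    simp at this
  -- the lowest nonzero position, minimised over the admissible columns
  let low : (Fin n → F) → ℕ := fun v => (Finset.univ.filter fun i => v i ≠ 0).sup fun i : Fin n => i.val + 1
  have hex : ∀ j, ∃ k, ∃ v ∈ S j, low v = k := fun j =>
    ⟨_, _, ⟨Pi.single j 1, fun k _ => rfl, rfl⟩, rfl⟩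
  choose v hv hlow using fun j => Nat.find_spec (hex j)
  have hmin : ∀ j, ∀ x ∈ S j, low (v j) ≤ low x := fun j x hx => by
    rw [hlow]; exact Nat.find_min' _ ⟨x, hx, rfl⟩
  have hpos : ∀ j, ∃ r : Fin n, v j r ≠ 0 ∧ low (v j) = r.val + 1 := by
    intro j
    have hne' : (Finset.univ.filter fun i => v j i ≠ 0).Nonempty := by
      by_contra h
      refine hne j _ (hv j) (funext fun i => ?_)
      by_contra hi
      exact h ⟨i, by simpa using hi⟩
    obtain ⟨r, hr, hr'⟩ := Finset.exists_mem_eq_sup _ hne' fun i : Fin n => i.val + 1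
    exact ⟨r, (Finset.mem_filter.mp hr).2, hr'⟩
  choose r hr hr' using hpos
  have hupper : ∀ j i, r j < i → v j i = 0 := by
    intro j i hi
    by_contra hne'
    have : i.val + 1 ≤ low (v j) :=
      Finset.le_sup (f := fun i : Fin n => i.val + 1) (by simpa using hne')
    rw [hr'] at this
    have := Fin.lt_def.mp hi
    omega
  choose c hc hvc using hv
  have hinj : Function.Injective r := by
    have key : ∀ i j, i < j → r i ≠ r j := by
      intro i j hij he
      have hmem : v j - (v j (r j) / v i (r i)) • v i ∈ S j := by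
        refine ⟨c j - (v j (r j) / v i (r i)) • c i, fun k hk => ?_, ?_⟩
        · rw [Pi.sub_apply, Pi.smul_apply, hc j k hk, hc i k (hij.le.trans hk),
            Pi.single_eq_of_ne (show k ≠ i from fun e => absurd (e ▸ hk) (not_le.mpr hij))]
          simp
        · rw [Matrix.mulVec_sub, Matrix.mulVec_smul, ← hvc, ← hvc]
      have h1 := hmin j _ hmem
      have h2 : low (v j - (v j (r j) / v i (r i)) • v i) ≤ (r j).val := by
        refine Finset.sup_le fun t ht => ?_
        rw [Finset.mem_filter] at ht
        by_contra hlt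
        apply ht.2
        rw [Pi.sub_apply, Pi.smul_apply, smul_eq_mul]
        rcases eq_or_ne t (r j) with rfl | hne'
        · rw [he, div_mul_cancel₀ _ (he ▸ hr i), sub_self]
        · have : r j < t := by
            refine lt_of_le_of_ne (Fin.le_def.mpr (by omega)) hne'.symm
          rw [hupper j t this, hupper i t (he.symm ▸ this), mul_zero, sub_zero]
      rw [hr'] at h1
      omega
    intro i j he
    rcases lt_trichotomy i j with h | h | h
    · exact absurd he (key i j h)
    · exact h
    · exact absurd he.symm (key j i h)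
  let w : Equiv.Perm (Fin n) := Equiv.ofBijective r (Finite.injective_iff_bijective.mp hinj)
  let Q : Mat := Matrix.of fun k j => c j k
  have hQ : Q.BlockTriangular id := fun k j hjk => by
    show c j k = 0
    rw [hc j k (le_of_lt hjk), Pi.single_eq_of_ne (show k ≠ j from ne_of_gt hjk)]
  have hQu : IsUnit Q := by
    rw [Matrix.isUnit_iff_isUnit_det, Matrix.det_of_upperTriangular hQ]
    refine (isUnit_iff_ne_zero).mpr (Finset.prod_ne_zero_iff.mpr fun j _ => ?_)
    show c j j ≠ 0
    rw [hc j j le_rfl, Pi.single_eq_same]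
    exact one_ne_zero
  set q := hQu.unit with hq
  set p := g * q * (permGL w)⁻¹ with hp
  have hqinv : (q⁻¹).val.BlockTriangular id := by
    haveI : Invertible Q := hQu.invertible
    rw [Matrix.coe_units_inv]
    exact Matrix.blockTriangular_inv_of_blockTriangular hQ
  refine ⟨w, p, q⁻¹, ?_, hqinv, by rw [hp]; group⟩
  intro i k hki
  obtain ⟨j, rfl⟩ := w.surjective k
  have h1 : (p.val * (permGL w : GL (Fin n) F).val) i j = p.val i (w j) := by
    simp [Matrix.mul_apply, permGL_apply]
  rw [← h1, ← Units.val_mul, hp, inv_mul_cancel_right, Units.val_mul]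
  show (g.val * Q) i j = 0
  have : (g.val * Q) i j = v j i := by rw [hvc]; rfl
  rw [this]
  exact hupper j i hki

section Invariant

variable (a b : Fin n → ℕ)

/-- The intersection of a step of the flag of `b` with the preimage under `g` of a step of the flag
of `a`. -/
def meetSet (g : GL (Fin n) F) (k l : ℕ) : Set (Fin n → F) :=
  {v | (∀ j, l ≤ b j → v j = 0) ∧ ∀ i, k ≤ a i → (g.val *ᵥ v) i = 0}

variable {a b}

theorem supported_mulVec {q : Mat} (hq : q.BlockTriangular b) {l : ℕ} {v : Fin n → F}
    (hv : ∀ j, l ≤ b j → v j = 0) : ∀ i, l ≤ b i → (q *ᵥ v) i = 0 := by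
  intro i hi
  show ∑ j, q i j * v j = 0
  refine Finset.sum_eq_zero fun j _ => ?_
  by_cases hj : l ≤ b j
  · rw [hv j hj, mul_zero]
  · rw [hq (lt_of_lt_of_le (lt_of_not_ge hj) hi), zero_mul]

theorem inv_blockTriangular {p : GL (Fin n) F} (hp : p.val.BlockTriangular a) :
    (p⁻¹).val.BlockTriangular a := by
  haveI : Invertible (p : Mat) := p.invertible
  rw [Matrix.coe_units_inv]
  exact Matrix.blockTriangular_inv_of_blockTriangular hp

theorem card_meetSet_mul {p q : GL (Fin n) F} (hp : p.val.BlockTriangular a)
    (hq : q.val.BlockTriangular b) (g : GL (Fin n) F) (k l : ℕ) :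
    Nat.card (meetSet a b (p * g * q) k l) = Nat.card (meetSet a b g k l) := by
  refine Nat.card_congr
    { toFun := fun v => ⟨q.val *ᵥ v.1, supported_mulVec hq v.2.1, ?_⟩
      invFun := fun v => ⟨(q⁻¹).val *ᵥ v.1, supported_mulVec (inv_blockTriangular hq) v.2.1, ?_⟩
      left_inv := fun v => Subtype.ext (by
        simp [Matrix.mulVec_mulVec])
      right_inv := fun v => Subtype.ext (by
        simp [Matrix.mulVec_mulVec]) }
  · have h := v.2.2
    have := supported_mulVec (inv_blockTriangular hp) h
    simpa [Matrix.mulVec_mulVec, ← mul_assoc] using this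
  · have := supported_mulVec hp v.2.2
    simpa [Matrix.mulVec_mulVec, mul_assoc] using this

theorem card_meetSet_perm [Finite F] (w : Equiv.Perm (Fin n)) (k l : ℕ) :
    Nat.card (meetSet a b (permGL w : GL (Fin n) F) k l) =
      Nat.card F ^ Nat.card {j : Fin n // b j < l ∧ a (w j) < k} := by
  classical
  rw [← Nat.card_fun]
  have hvan : ∀ v : meetSet a b (permGL w : GL (Fin n) F) k l, ∀ j,
      ¬(b j < l ∧ a (w j) < k) → v.1 j = 0 := by
    intro v j hj
    by_cases h1 : l ≤ b j
    · exact v.2.1 j h1
    · have := v.2.2 (w j) (not_lt.mp fun h => hj ⟨not_le.mp h1, h⟩)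
      rwa [permGL_mulVec] at this
  refine Nat.card_congr
    { toFun := fun v j => v.1 j.1
      invFun := fun f => ⟨fun j => if h : b j < l ∧ a (w j) < k then f ⟨j, h⟩ else 0, ?_, ?_⟩
      left_inv := fun v => Subtype.ext (funext fun j => by
        by_cases h : b j < l ∧ a (w j) < k
        · simp [h]
        · simp [h, hvan v j h])
      right_inv := fun f => funext fun j => by simp [j.2] }
  · intro j hj
    exact dif_neg fun h => absurd h.1 (not_lt.mpr hj)
  · intro i hi
    obtain ⟨j, rfl⟩ := w.surjective i
    rw [permGL_mulVec]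
    exact dif_neg fun h => absurd h.2 (not_lt.mpr hi)

end Invariant

/-- If two permutations give the same double coset of parabolic subgroups, they have the same
block counts. -/
theorem count_eq_of_eq [Finite F] {a b : Fin n → ℕ} {w w' : Equiv.Perm (Fin n)}
    {p q : GL (Fin n) F} (hp : p.val.BlockTriangular a) (hq : q.val.BlockTriangular b)
    (h : (permGL w' : GL (Fin n) F) = p * permGL w * q) (k l : ℕ) :
    Nat.card {j : Fin n // b j = l ∧ a (w' j) = k} = Nat.card {j : Fin n // b j = l ∧ a (w j) = k} := by
  classical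
  have hlt : ∀ k l, Nat.card {j : Fin n // b j < l ∧ a (w' j) < k} =
      Nat.card {j : Fin n // b j < l ∧ a (w j) < k} := by
    intro k l
    refine Nat.pow_right_injective (Finite.one_lt_card : 1 < Nat.card F) ?_
    show _ ^ _ = _ ^ _
    rw [← card_meetSet_perm, ← card_meetSet_perm, h, card_meetSet_mul hp hq]
  have hsplit : ∀ v : Equiv.Perm (Fin n),
      (Nat.card {j : Fin n // b j = l ∧ a (v j) = k} : ℤ) =
        Nat.card {j : Fin n // b j < l + 1 ∧ a (v j) < k + 1}
          - Nat.card {j : Fin n // b j < l ∧ a (v j) < k + 1}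
          - Nat.card {j : Fin n // b j < l + 1 ∧ a (v j) < k}
          + Nat.card {j : Fin n // b j < l ∧ a (v j) < k} := by
    intro v
    simp only [Nat.card_eq_fintype_card, Fintype.card_subtype, Finset.card_filter]
    push_cast
    rw [← Finset.sum_sub_distrib, ← Finset.sum_sub_distrib, ← Finset.sum_add_distrib]
    refine Finset.sum_congr rfl fun j _ => ?_
    split_ifs <;> omega
  have h1 := hsplit w'
  rw [hlt, hlt, hlt, hlt, ← hsplit w] at h1
  exact_mod_cast h1

end Cfsg.Agent.GLUnipotent
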