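import Mathlib
import Cfsg.Prelude.Def_LinearParabolics
import Cfsg.Prelude.Def_Characters
import Cfsg.Agent.Lib.GLUnipotent.Bruhat

set_option autoImplicit false

/-!
Inner products of flag permutation characters of `GL_n(q)` and of Young permutation characters of
`S_n` as numbers of non-negative integer matrices with prescribed margins.
-/

namespace Cfsg.Agent.GLUnipotent

open Matrix
open scoped ComplexConjugate

universe u v

section Group

variable {G : Type u} [Group G] [Fintype G]

/-- The inner product of two permutation characters counts double cosets. -/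
theorem sum_fixedPointCharacter_mul (H K : Subgroup G) :
    (Nat.card G : ℂ)⁻¹ *
        ∑ g : G, Cfsg.fixedPointCharacter H g * Cfsg.fixedPointCharacter K g =
      (Nat.card (DoubleCoset.Quotient (H : Set G) (K : Set G)) : ℂ) := by
  classical
  let Ω := (G ⧸ H) × (G ⧸ K)
  have hfix : ∀ g : G, Nat.card (MulAction.fixedBy Ω g) =
      Nat.card (MulAction.fixedBy (G ⧸ H) g) * Nat.card (MulAction.fixedBy (G ⧸ K) g) := by
    intro g
    rw [← Nat.card_prod]
    exact Nat.card_congr
      { toFun := fun x => (⟨x.1.1, congrArg Prod.fst x.2⟩, ⟨x.1.2, congrArg Prod.snd x.2⟩)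
        invFun := fun y => ⟨(y.1.1, y.2.1), Prod.ext y.1.2 y.2.2⟩
        left_inv := fun _ => rfl
        right_inv := fun _ => rfl }
  let φ : DoubleCoset.Quotient (H : Set G) (K : Set G) → MulAction.orbitRel.Quotient G Ω :=
    Quotient.lift (fun x => Quotient.mk'' ((((1 : G) : G ⧸ H)), ((x : G) : G ⧸ K))) (by
      intro x y hxy
      obtain ⟨a, ha, b, hb, rfl⟩ := DoubleCoset.rel_iff.mp hxy
      refine Quotient.sound' ⟨a⁻¹, Prod.ext ?_ ?_⟩
      · show (((a⁻¹ * 1 : G)) : G ⧸ H) = ((1 : G) : G ⧸ H)
        rw [QuotientGroup.eq]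
        simpa using ha
      · show (((a⁻¹ * (a * x * b) : G)) : G ⧸ K) = ((x : G) : G ⧸ K)
        rw [QuotientGroup.eq]
        simpa [mul_assoc] using hb)
  have hφ : Function.Bijective φ := by
    constructor
    · intro x y hxy
      induction x using Quotient.inductionOn with | _ x => ?_
      induction y using Quotient.inductionOn with | _ y => ?_
      obtain ⟨g, hg⟩ := Quotient.exact' hxy
      have h1 : (((g * 1 : G)) : G ⧸ H) = ((1 : G) : G ⧸ H) := congrArg Prod.fst hg
      have h2 : (((g * y : G)) : G ⧸ K) = ((x : G) : G ⧸ K) := congrArg Prod.snd hg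
      rw [QuotientGroup.eq] at h1 h2
      refine Quotient.sound (DoubleCoset.rel_iff.mpr ⟨g⁻¹, by simpa using h1, ((g * y)⁻¹ * x)⁻¹,
        inv_mem h2, ?_⟩)
      simp [mul_assoc]
    · intro z
      induction z using Quotient.inductionOn' with | _ z => ?_
      obtain ⟨a, ha⟩ := QuotientGroup.mk_surjective z.1
      obtain ⟨b, hb⟩ := QuotientGroup.mk_surjective z.2
      refine ⟨Quotient.mk'' (a⁻¹ * b), Quotient.sound' ⟨a⁻¹, Prod.ext ?_ ?_⟩⟩
      · show a⁻¹ • z.1 = ((1 : G) : G ⧸ H)
        rw [← ha]
        show ((a⁻¹ * a : G) : G ⧸ H) = _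
        rw [inv_mul_cancel]
      · show a⁻¹ • z.2 = ((a⁻¹ * b : G) : G ⧸ K)
        rw [← hb]
        rfl
  haveI : Fintype Ω := Fintype.ofFinite Ω
  haveI : Fintype (MulAction.orbitRel.Quotient G Ω) := Fintype.ofFinite _
  have hb := MulAction.sum_card_fixedBy_eq_card_orbits_mul_card_group G Ω
  simp only [← Nat.card_eq_fintype_card, hfix] at hb
  rw [← Nat.card_congr (Equiv.ofBijective φ hφ)] at hb
  simp only [Cfsg.fixedPointCharacter, ← Nat.cast_mul, ← Nat.cast_sum, hb]
  rw [Nat.cast_mul]
  rw [mul_comm, mul_assoc, mul_inv_cancel₀ (Nat.cast_ne_zero.mpr Nat.card_pos.ne'), mul_one]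

theorem conj_fixedPointCharacter (H : Subgroup G) (g : G) :
    conj (Cfsg.fixedPointCharacter H g) = Cfsg.fixedPointCharacter H g := by
  simp [Cfsg.fixedPointCharacter]

theorem classInner_fixedPointCharacter (H K : Subgroup G) :
    Cfsg.classInner (Cfsg.fixedPointCharacter H) (Cfsg.fixedPointCharacter K) =
      (Nat.card (DoubleCoset.Quotient (H : Set G) (K : Set G)) : ℂ) := by
  simp only [Cfsg.classInner, conj_fixedPointCharacter]
  exact sum_fixedPointCharacter_mul H K

end Group

variable {n : ℕ}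

theorem compLabel_mono (μ : Fin n → ℕ) : Monotone (Cfsg.compLabel μ) := by
  intro i j hij
  refine Finset.card_le_card fun k hk => ?_
  simp only [Finset.mem_filter] at hk ⊢
  exact ⟨hk.1, hk.2.trans (Fin.le_def.mp hij)⟩

theorem card_compLabel_le (μ : Fin n → ℕ) (hμ : ∑ i, μ i = n) (k : Fin n) :
    (Finset.univ.filter fun i : Fin n => Cfsg.compLabel μ i ≤ k.val).card =
      ∑ j ∈ Finset.univ.filter (fun j : Fin n => j ≤ k), μ j := by
  classical
  set S := fun j : Fin n => ∑ t ∈ Finset.univ.filter (fun t : Fin n => t ≤ j), μ t with hS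
  have hmono : Monotone S := fun x y hxy => Finset.sum_le_sum_of_subset fun t ht => by
    simp only [Finset.mem_filter] at ht ⊢
    exact ⟨ht.1, ht.2.trans hxy⟩
  have hle : S k ≤ n := hμ ▸ Finset.sum_le_sum_of_subset (Finset.filter_subset _ _)
  have hiff : ∀ i : Fin n, Cfsg.compLabel μ i ≤ k.val ↔ i.val < S k := by
    intro i
    constructor
    · intro h
      by_contra hc
      push Not at hc
      have hsub : Finset.Iic k ⊆ Finset.univ.filter (fun j : Fin n => S j ≤ i.val) := fun t ht =>
        Finset.mem_filter.mpr ⟨Finset.mem_univ _, (hmono (Finset.mem_Iic.mp ht)).trans hc⟩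
      have := Finset.card_le_card hsub
      rw [Fin.card_Iic] at this
      change k.val + 1 ≤ Cfsg.compLabel μ i at this
      omega
    · intro h
      have hsub : Finset.univ.filter (fun j : Fin n => S j ≤ i.val) ⊆ Finset.Iio k := fun t ht => by
        refine Finset.mem_Iio.mpr (lt_of_not_ge fun hkt => ?_)
        have := (hmono hkt).trans (Finset.mem_filter.mp ht).2
        omega
      have := Finset.card_le_card hsub
      rw [Fin.card_Iio] at this
      exact this
  simp only [hiff]
  show (Finset.univ.filter fun i : Fin n => i.val < S k).card = S k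
  rw [← Fintype.card_subtype]
  calc Fintype.card {i : Fin n // i.val < S k} = Fintype.card (Fin (S k)) := Fintype.card_congr
        { toFun := fun i => ⟨i.1.val, i.2⟩
          invFun := fun i => ⟨⟨i.val, lt_of_lt_of_le i.isLt hle⟩, i.isLt⟩
          left_inv := fun _ => rfl
          right_inv := fun _ => rfl }
    _ = S k := Fintype.card_fin _

theorem compLabel_lt (μ : Fin n → ℕ) (hμ : ∑ i, μ i = n) (i : Fin n) : Cfsg.compLabel μ i < n := by
  have hn : 0 < n := i.pos
  have h := card_compLabel_le μ hμ ⟨n - 1, by omega⟩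
  rw [show Finset.univ.filter (fun j : Fin n => j ≤ (⟨n - 1, by omega⟩ : Fin n)) = Finset.univ from
    Finset.filter_true_of_mem fun j _ => Fin.le_def.mpr (by have := j.isLt; simp; omega), hμ] at h
  have h2 : Finset.univ.filter (fun j : Fin n => Cfsg.compLabel μ j ≤ n - 1) = Finset.univ :=
    Finset.eq_univ_of_card _ (h.trans (Fintype.card_fin n).symm)
  have := (Finset.mem_filter.mp (h2.ge (Finset.mem_univ i))).2
  omega

/-- The block of a position. -/
def blk (μ : Fin n → ℕ) (hμ : ∑ i, μ i = n) (i : Fin n) : Fin n :=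
  ⟨Cfsg.compLabel μ i, compLabel_lt μ hμ i⟩

theorem card_fiber_blk (μ : Fin n → ℕ) (hμ : ∑ i, μ i = n) (k : Fin n) :
    Nat.card {i : Fin n // blk μ hμ i = k} = μ k := by
  classical
  rw [Nat.card_eq_fintype_card, Fintype.card_subtype]
  have h := card_compLabel_le μ hμ k
  by_cases hk : k.val = 0
  · rw [show Finset.univ.filter (fun j : Fin n => j ≤ k) = {k} from by
      ext t; simp only [Finset.mem_filter, Finset.mem_univ, true_and, Finset.mem_singleton]
      exact ⟨fun ht => Fin.ext (by have := Fin.le_def.mp ht; omega), fun ht => ht ▸ le_rfl⟩,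
      Finset.sum_singleton] at h
    refine (congrArg Finset.card (Finset.filter_congr fun i _ => ?_)).trans h
    simp [blk, Fin.ext_iff, hk]
  · let k' : Fin n := ⟨k.val - 1, by have := k.isLt; omega⟩
    have h' := card_compLabel_le μ hμ k'
    have hsum : ∑ j ∈ Finset.univ.filter (fun j : Fin n => j ≤ k), μ j =
        μ k + ∑ j ∈ Finset.univ.filter (fun j : Fin n => j ≤ k'), μ j := by
      have hins : Finset.univ.filter (fun j : Fin n => j ≤ k) =
          insert k (Finset.univ.filter (fun j : Fin n => j ≤ k')) := by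
        refine Finset.ext fun t => ?_
        simp only [Finset.mem_filter, Finset.mem_univ, true_and, Finset.mem_insert, k', Fin.le_def,
          Fin.ext_iff]
        omega
      have hnot : k ∉ Finset.univ.filter (fun j : Fin n => j ≤ k') := by
        simp only [Finset.mem_filter, Finset.mem_univ, true_and, k', Fin.le_def]
        omega
      rw [hins, Finset.sum_insert hnot]
    have hsplit : (Finset.univ.filter fun i : Fin n => Cfsg.compLabel μ i ≤ k.val).card =
        (Finset.univ.filter fun i : Fin n => blk μ hμ i = k).card +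
          (Finset.univ.filter fun i : Fin n => Cfsg.compLabel μ i ≤ k'.val).card := by
      rw [← Finset.card_union_of_disjoint]
      · congr 1
        ext i
        simp [blk, k', Fin.ext_iff]
        omega
      · rw [Finset.disjoint_filter]
        intro i _ h1 h2
        simp [blk, k', Fin.ext_iff] at h1 h2
        omega
    omega

/-- Non-negative integer matrices with prescribed margins. -/
def Margins (r c : Fin n → ℕ) : Set (Fin n → Fin n → ℕ) :=
  {N | (∀ i, ∑ j, N i j = r i) ∧ ∀ j, ∑ i, N i j = c j}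

/-- The number of non-negative integer matrices with prescribed margins. -/
noncomputable def numMargins (r c : Fin n → ℕ) : ℕ := Nat.card (Margins r c)

theorem numMargins_comp (r c : Fin n → ℕ) (e e' : Equiv.Perm (Fin n)) :
    numMargins (r ∘ e) (c ∘ e') = numMargins r c := by
  refine Nat.card_congr
    { toFun := fun N => ⟨fun i j => N.1 (e.symm i) (e'.symm j), ?_, ?_⟩
      invFun := fun N => ⟨fun i j => N.1 (e i) (e' j), ?_, ?_⟩
      left_inv := fun N => by ext i j; simp
      right_inv := fun N => by ext i j; simp }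
  · intro i
    rw [Equiv.sum_comp e'.symm fun j => N.1 (e.symm i) j]
    simpa using N.2.1 (e.symm i)
  · intro j
    rw [Equiv.sum_comp e.symm fun i => N.1 i (e'.symm j)]
    simpa using N.2.2 (e'.symm j)
  · intro i
    rw [Equiv.sum_comp e' fun j => N.1 (e i) j]
    exact N.2.1 (e i)
  · intro j
    rw [Equiv.sum_comp e fun i => N.1 i (e' j)]
    exact N.2.2 (e' j)

section DoubleCosets

variable {μ ν : Fin n → ℕ} (hμ : ∑ i, μ i = n) (hν : ∑ i, ν i = n)

/-- The matrix of block counts of a permutation. -/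
noncomputable def countMatrix (w : Equiv.Perm (Fin n)) (i j : Fin n) : ℕ :=
  Nat.card {x : Fin n // blk ν hν x = j ∧ blk μ hμ (w x) = i}

theorem countMatrix_mem (w : Equiv.Perm (Fin n)) : countMatrix hμ hν w ∈ Margins μ ν := by
  classical
  constructor
  · intro i
    rw [← card_fiber_blk μ hμ i,
      ← Nat.card_congr (w.subtypeEquiv (p := fun x => blk μ hμ (w x) = i) (fun _ => Iff.rfl))]
    simp only [countMatrix, Nat.card_eq_fintype_card]
    rw [← Fintype.card_sigma]
    exact Fintype.card_congr
      { toFun := fun x => ⟨x.2.1, x.2.2.2⟩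
        invFun := fun x => ⟨blk ν hν x.1, x.1, rfl, x.2⟩
        left_inv := fun x => by obtain ⟨j, y, rfl, h⟩ := x; rfl
        right_inv := fun _ => rfl }
  · intro j
    rw [← card_fiber_blk ν hν j]
    simp only [countMatrix, Nat.card_eq_fintype_card]
    rw [← Fintype.card_sigma]
    exact Fintype.card_congr
      { toFun := fun x => ⟨x.2.1, x.2.2.1⟩
        invFun := fun x => ⟨blk μ hμ (w x.1), x.1, x.2, rfl⟩
        left_inv := fun x => by obtain ⟨i, y, h, rfl⟩ := x; rfl
        right_inv := fun _ => rfl }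

theorem exists_countMatrix {N : Fin n → Fin n → ℕ} (hN : N ∈ Margins μ ν) :
    ∃ w, countMatrix hμ hν w = N := by
  classical
  let St := Σ ij : Fin n × Fin n, Fin (N ij.1 ij.2)
  have key : ∀ (f : Fin n → Fin n) (π : Fin n × Fin n → Fin n) (m : Fin n → ℕ),
      (∀ k, Nat.card {x : Fin n // f x = k} = m k) →
      (∀ k, ∑ ij ∈ Finset.univ.filter (fun ij => π ij = k), N ij.1 ij.2 = m k) →
      ∃ e : St ≃ Fin n, ∀ x, f (e x) = π x.1 := by
    intro f π m hf hπ
    have hc : ∀ k, Fintype.card {x : St // π x.1 = k} = Fintype.card {x : Fin n // f x = k} := by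
      intro k
      rw [← Nat.card_eq_fintype_card (α := {x : Fin n // f x = k}), hf, ← hπ k, Fintype.card_subtype]
      have : (Finset.univ.filter fun x : St => π x.1 = k) =
          (Finset.univ.filter fun ij => π ij = k).sigma fun _ => Finset.univ := by
        ext x
        refine ⟨fun h => Finset.mem_sigma.mpr ⟨by simpa using h, Finset.mem_univ _⟩,
          fun h => by simpa using (Finset.mem_sigma.mp h).1⟩
      rw [this, Finset.card_sigma]
      simp
    exact ⟨Equiv.ofFiberEquiv (f := fun x : St => π x.1) (g := f)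
      fun k => Fintype.equivOfCardEq (hc k), fun x => Equiv.ofFiberEquiv_map _ _⟩
  obtain ⟨ea, hea⟩ := key (blk μ hμ) Prod.fst μ (card_fiber_blk μ hμ) (fun i => by
    rw [← hN.1 i]
    refine Finset.sum_nbij' (fun ij => ij.2) (fun j => (i, j)) ?_ ?_ ?_ ?_ ?_
    all_goals simp
    all_goals rintro a b rfl; rfl)
  obtain ⟨eb, heb⟩ := key (blk ν hν) Prod.snd ν (card_fiber_blk ν hν) (fun j => by
    rw [← hN.2 j]
    refine Finset.sum_nbij' (fun ij => ij.1) (fun i => (i, j)) ?_ ?_ ?_ ?_ ?_
    all_goals simp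
    all_goals rintro a b rfl; rfl)
  refine ⟨eb.symm.trans ea, funext fun i => funext fun j => ?_⟩
  rw [countMatrix, ← Nat.card_congr (eb.subtypeEquiv
    (p := fun x : St => x.1 = (i, j)) (fun x => ?_)), Nat.card_congr (Equiv.sigmaSubtype (i, j)),
    Nat.card_fin]
  rw [heb, Equiv.trans_apply, Equiv.symm_apply_apply, hea, Prod.ext_iff]
  exact ⟨fun h => ⟨h.2, h.1⟩, fun h => ⟨h.2, h.1⟩⟩

theorem exists_young_of_countMatrix_eq {w w' : Equiv.Perm (Fin n)}
    (h : countMatrix hμ hν w = countMatrix hμ hν w') :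
    ∃ τ ∈ Cfsg.youngSubgroup μ, ∃ σ ∈ Cfsg.youngSubgroup ν, w' = τ * w * σ := by
  classical
  let T : Equiv.Perm (Fin n) → Fin n → Fin n × Fin n := fun v x => (blk μ hμ (v x), blk ν hν x)
  have hc : ∀ ij, Fintype.card {x // T w' x = ij} = Fintype.card {x // T w x = ij} := by
    intro ij
    have := congrFun (congrFun h ij.1) ij.2
    simp only [countMatrix, Nat.card_eq_fintype_card] at this
    simp only [T, Prod.ext_iff]
    simpa [and_comm] using this.symm
  let σ : Equiv.Perm (Fin n) :=
    Equiv.ofFiberEquiv (f := T w') (g := T w) fun ij => Fintype.equivOfCardEq (hc ij)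
  have hσ : ∀ x, T w (σ x) = T w' x := fun x => Equiv.ofFiberEquiv_map _ _
  refine ⟨w' * σ⁻¹ * w⁻¹, fun i => ?_, σ, fun i => ?_, by group⟩
  · have h1 := congrArg Prod.fst (hσ (σ⁻¹ (w⁻¹ i)))
    have h2 : σ (σ⁻¹ (w⁻¹ i)) = w⁻¹ i := σ.apply_symm_apply _
    have h3 : w (w⁻¹ i) = i := w.apply_symm_apply _
    simp only [T, h2, h3] at h1
    exact (congrArg Fin.val h1).symm
  · exact congrArg Fin.val (congrArg Prod.snd (hσ i))

theorem countMatrix_young {w τ σ : Equiv.Perm (Fin n)} (hτ : τ ∈ Cfsg.youngSubgroup μ)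
    (hσ : σ ∈ Cfsg.youngSubgroup ν) :
    countMatrix hμ hν (τ * w * σ) = countMatrix hμ hν w := by
  funext i j
  refine Nat.card_congr (σ.subtypeEquiv fun x => ?_)
  have h1 : blk ν hν (σ x) = blk ν hν x := Fin.ext (hσ x)
  have h2 : blk μ hμ (τ (w (σ x))) = blk μ hμ (w (σ x)) := Fin.ext (hτ _)
  simp only [Equiv.Perm.mul_apply, h1, h2]

include hμ hν in
theorem card_doubleCoset_young :
    Nat.card (DoubleCoset.Quotient (Cfsg.youngSubgroup μ : Set (Equiv.Perm (Fin n)))
      (Cfsg.youngSubgroup ν : Set (Equiv.Perm (Fin n)))) = numMargins μ ν := by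
  refine Nat.card_congr (Equiv.ofBijective
    (Quotient.lift (fun w => (⟨countMatrix hμ hν w, countMatrix_mem hμ hν w⟩ : Margins μ ν)) ?_) ⟨?_, ?_⟩)
  · intro x y hxy
    obtain ⟨τ, hτ, σ, hσ, rfl⟩ := DoubleCoset.rel_iff.mp hxy
    exact Subtype.ext (countMatrix_young hμ hν hτ hσ).symm
  · intro x y hxy
    induction x using Quotient.inductionOn with | _ x => ?_
    induction y using Quotient.inductionOn with | _ y => ?_
    exact Quotient.sound (DoubleCoset.rel_iff.mpr
      (exists_young_of_countMatrix_eq hμ hν (congrArg Subtype.val hxy)))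
  · intro N
    obtain ⟨w, hw⟩ := exists_countMatrix hμ hν N.2
    exact ⟨Quotient.mk'' w, Subtype.ext hw⟩

variable {F : Type u} [Field F] [Finite F]

include hμ hν in
theorem card_doubleCoset_parabolic :
    Nat.card (DoubleCoset.Quotient (Cfsg.parabolicGL n F μ : Set (GL (Fin n) F))
      (Cfsg.parabolicGL n F ν : Set (GL (Fin n) F))) = numMargins μ ν := by
  rw [← card_doubleCoset_young hμ hν]
  refine (Nat.card_congr (Equiv.ofBijective
    (Quotient.lift (fun w => DoubleCoset.mk (Cfsg.parabolicGL n F μ) (Cfsg.parabolicGL n F ν)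
      (permGL w)) ?_) ⟨?_, ?_⟩)).symm
  · intro x y hxy
    obtain ⟨τ, hτ, σ, hσ, rfl⟩ := DoubleCoset.rel_iff.mp hxy
    exact (DoubleCoset.eq _ _ _ _).mpr
      ⟨permGL τ, permGL_mem _ hτ, permGL σ, permGL_mem _ hσ, by rw [map_mul, map_mul]⟩
  · intro x y hxy
    induction x using Quotient.inductionOn with | _ x => ?_
    induction y using Quotient.inductionOn with | _ y => ?_
    obtain ⟨p, hp, q, hq, he⟩ := (DoubleCoset.eq _ _ _ _).mp hxy
    refine Quotient.sound (DoubleCoset.rel_iff.mpr (exists_young_of_countMatrix_eq hμ hν ?_))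
    funext i j
    have := count_eq_of_eq (a := Cfsg.compLabel μ) (b := Cfsg.compLabel ν) hp hq he i.val j.val
    simpa only [countMatrix, blk, Fin.ext_iff] using this.symm
  · intro z
    induction z using Quotient.inductionOn' with | _ g => ?_
    obtain ⟨w, p, q, hp, hq, rfl⟩ := exists_bruhat g
    have hup : ∀ (η : Fin n → ℕ) (t : GL (Fin n) F), t.val.BlockTriangular id →
        t ∈ Cfsg.parabolicGL n F η := fun η t ht i j hij =>
      ht (lt_of_not_ge fun hle => absurd (compLabel_mono η hle) (not_le.mpr hij))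
    exact ⟨Quotient.mk'' w, ((DoubleCoset.eq _ _ _ _).mpr
      ⟨p, hup μ p hp, q, hup ν q hq, rfl⟩)⟩

include hμ hν in
theorem classInner_parabolic [Fintype (GL (Fin n) F)] :
    Cfsg.classInner (Cfsg.fixedPointCharacter (Cfsg.parabolicGL n F μ))
      (Cfsg.fixedPointCharacter (Cfsg.parabolicGL n F ν)) = (numMargins μ ν : ℂ) := by
  rw [classInner_fixedPointCharacter, card_doubleCoset_parabolic hμ hν]

end DoubleCosets

end Cfsg.Agent.GLUnipotent
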