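import Cfsg.Prelude.Def_JordanBlocks
import Mathlib

/-!
Jordan normal form of unipotent matrices, in terms of `Cfsg.jordanTypeMatrix`.
-/

set_option autoImplicit false

namespace Cfsg.Agent.JordanType

open scoped Matrix
open Polynomial DirectSum

variable {F : Type*} [Field F] {t : ℕ}

/-- The index type of a Jordan type. -/
abbrev Idx (d : Fin t → ℕ) := (k : Fin t) × Fin (d k)

variable (F) in
/-- The nilpotent part of a Jordan type matrix. -/
def shift (d : Fin t → ℕ) : Matrix (Idx d) (Idx d) F := Cfsg.jordanTypeMatrix d F - 1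

theorem shift_apply (d : Fin t → ℕ) (a b : Idx d) :
    shift F d a b = if a.1 = b.1 ∧ (a.2 : ℕ) = b.2 + 1 then 1 else 0 := by
  obtain ⟨k, i⟩ := a
  obtain ⟨l, j⟩ := b
  by_cases hkl : k = l
  · subst hkl
    rw [shift, Matrix.sub_apply, Cfsg.jordanTypeMatrix, Matrix.blockDiagonal'_apply_eq, Cfsg.jordanBlock]
    simp only [Matrix.of_apply, true_and, Matrix.one_apply]
    by_cases hij : i = j
    · subst hij; simp
    · have : (i : ℕ) ≠ j := fun e => hij (Fin.ext e)
      simp [hij, this]
  · rw [shift, Matrix.sub_apply, Cfsg.jordanTypeMatrix, Matrix.blockDiagonal'_apply_ne _ _ _ hkl,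
      Matrix.one_apply_ne (fun e => hkl (congrArg Sigma.fst e)), sub_zero, if_neg (fun e => hkl e.1)]

theorem shift_pow_apply (d : Fin t → ℕ) (m : ℕ) : ∀ a b : Idx d,
    (shift F d ^ m) a b = if a.1 = b.1 ∧ (a.2 : ℕ) = b.2 + m then 1 else 0 := by
  induction m with
  | zero =>
    intro a b
    rw [pow_zero, Matrix.one_apply]
    refine if_congr ⟨fun e => ⟨congrArg Sigma.fst e, by rw [e]; rfl⟩, fun e => ?_⟩ rfl rfl
    obtain ⟨k, i⟩ := a
    obtain ⟨l, j⟩ := b
    obtain ⟨rfl, e2⟩ := e
    rw [Fin.ext (show (i : ℕ) = j from e2)]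
  | succ m ih =>
    intro a b
    rw [pow_succ, Matrix.mul_apply]
    by_cases hlt : (b.2 : ℕ) + 1 < d b.1
    · rw [Finset.sum_eq_single (⟨b.1, ⟨b.2 + 1, hlt⟩⟩ : Idx d)]
      · rw [shift_apply, if_pos ⟨rfl, rfl⟩, mul_one, ih]
        refine if_congr ?_ rfl rfl
        simp only [add_assoc, add_comm 1 m]
      · intro c _ hc
        rw [shift_apply, if_neg, mul_zero]
        rintro ⟨e1, e2⟩
        obtain ⟨k, i⟩ := c
        change k = b.1 at e1
        subst e1
        exact hc (congrArg (Sigma.mk _) (Fin.ext e2))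
      · simp
    · rw [Finset.sum_eq_zero, if_neg]
      · rintro ⟨e1, e2⟩
        have h1 : (a.2 : ℕ) < d b.1 := e1 ▸ a.2.2
        omega
      · intro c _
        rw [shift_apply, if_neg, mul_zero]
        rintro ⟨e1, e2⟩
        have h1 : (c.2 : ℕ) < d b.1 := e1 ▸ c.2.2
        omega

theorem rank_shift_pow (d : Fin t → ℕ) (m : ℕ) : (shift F d ^ m).rank = ∑ k, (d k - m) := by
  classical
  set w : Idx d → F := fun a => if m ≤ (a.2 : ℕ) then 1 else 0
  have h1 : shift F d ^ m * (shift F d ^ m).transpose = Matrix.diagonal w := by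
    ext a b
    rw [Matrix.mul_apply]
    by_cases hm : m ≤ (a.2 : ℕ)
    · rw [Finset.sum_eq_single (⟨a.1, ⟨a.2 - m, by omega⟩⟩ : Idx d)]
      · rw [Matrix.transpose_apply, shift_pow_apply, shift_pow_apply,
          if_pos ⟨rfl, show (a.2 : ℕ) = a.2 - m + m by omega⟩, one_mul, Matrix.diagonal_apply]
        by_cases hab : a = b
        · subst hab
          rw [if_pos ⟨rfl, show (a.2 : ℕ) = a.2 - m + m by omega⟩, if_pos rfl]
          exact (if_pos hm).symm
        · rw [if_neg hab, if_neg]
          rintro ⟨e1, e2⟩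
          obtain ⟨k, i⟩ := a
          obtain ⟨l, j⟩ := b
          change l = k at e1
          subst e1
          change (j : ℕ) = i - m + m at e2
          exact hab (congrArg (Sigma.mk _) (Fin.ext (by change m ≤ (i : ℕ) at hm; omega)))
      · intro c _ hc
        rw [shift_pow_apply, if_neg, zero_mul]
        rintro ⟨e1, e2⟩
        obtain ⟨k, i⟩ := c
        change a.1 = k at e1
        subst e1
        change (a.2 : ℕ) = i + m at e2
        exact hc (congrArg (Sigma.mk _) (Fin.ext (show (i : ℕ) = a.2 - m by omega)))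
      · simp
    · rw [Finset.sum_eq_zero, Matrix.diagonal_apply]
      · split_ifs
        · exact (if_neg hm).symm
        · rfl
      · intro c _
        rw [shift_pow_apply, if_neg, zero_mul]
        rintro ⟨-, e2⟩
        omega
  have h2 : Matrix.diagonal w * shift F d ^ m = shift F d ^ m := by
    ext a b
    rw [Matrix.diagonal_mul, shift_pow_apply]
    split_ifs with h
    · rw [mul_one]; exact if_pos (by omega)
    · rw [mul_zero]
  have hw : (Matrix.diagonal w).rank = ∑ k, (d k - m) := by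
    rw [Matrix.rank_diagonal, Fintype.card_subtype]
    rw [show (Finset.univ.filter fun a => w a ≠ 0) =
      Finset.univ.sigma fun k : Fin t => (Finset.univ : Finset (Fin (d k))).filter fun i : Fin (d k) => m ≤ i.1 by
        ext a; simp [w]]
    rw [Finset.card_sigma]
    refine Finset.sum_congr rfl fun k _ => ?_
    rw [← Finset.card_range (d k - m)]
    refine Finset.card_bij (fun i _ => (i : ℕ) - m) ?_ ?_ ?_
    · intro i hi; simp at hi; simp only [Finset.mem_range]; omega
    · intro i hi j hj e; simp at hi hj; exact Fin.ext (by omega)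
    · intro b hb; simp only [Finset.mem_range] at hb
      exact ⟨⟨b + m, by omega⟩, by simp, by simp⟩
  refine le_antisymm ?_ ?_
  · calc (shift F d ^ m).rank = (Matrix.diagonal w * shift F d ^ m).rank := by rw [h2]
      _ ≤ _ := (Matrix.rank_mul_le_left _ _).trans hw.le
  · calc _ = (shift F d ^ m * (shift F d ^ m).transpose).rank := by rw [h1, hw]
      _ ≤ _ := Matrix.rank_mul_le_left _ _

/-- A nilpotent endomorphism has a basis of chains. -/
theorem exists_chains {V : Type*} [AddCommGroup V] [Module F V] [FiniteDimensional F V]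
    (N : Module.End F V) (m : ℕ) (hN : N ^ m = 0) :
    ∃ (t : ℕ) (d : Fin t → ℕ) (T : (Idx d → F) ≃ₗ[F] V),
      (∀ k, d k ≤ m) ∧ ∀ c, N (T c) = T (shift F d *ᵥ c) := by
  classical
  have htor : Module.IsTorsion' (Module.AEval' N) (Submonoid.powers (X : F[X])) := fun x => by
    refine ⟨⟨X ^ m, m, rfl⟩, ?_⟩
    obtain ⟨v, rfl⟩ := (Module.AEval'.of N).surjective x
    show (X : F[X]) ^ m • Module.AEval'.of N v = 0
    rw [← Module.AEval.of_aeval_smul]
    simp [hN]
  obtain ⟨t, d, ⟨Φ⟩⟩ := Module.torsion_by_prime_power_decomposition (R := F[X]) Polynomial.irreducible_X htor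
  let w : Fin t → Module.AEval' N := fun i =>
    Φ.symm (DirectSum.of (fun i => F[X] ⧸ F[X] ∙ X ^ d i) i (Submodule.Quotient.mk 1))
  let v : Fin t → V := fun i => (Module.AEval'.of N).symm (w i)
  have hdvd : ∀ i (Q : F[X]), (Submodule.Quotient.mk Q : F[X] ⧸ F[X] ∙ X ^ d i) = 0 ↔
      ∀ j < d i, Q.coeff j = 0 := fun i Q => by
    rw [Submodule.Quotient.mk_eq_zero, ← Polynomial.X_pow_dvd_iff, Ideal.submodule_span_eq,
      Ideal.mem_span_singleton]
  let T₀ : (Idx d → F) →ₗ[F] V :=
    ∑ p : Idx d, (LinearMap.proj p).smulRight ((N ^ (p.2 : ℕ)) (v p.1))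
  let P : (Idx d → F) → Fin t → F[X] := fun c i => ∑ j : Fin (d i), C (c ⟨i, j⟩) * X ^ (j : ℕ)
  have hT : ∀ c, Φ (Module.AEval'.of N (T₀ c)) =
      ∑ i, DirectSum.of (fun i => F[X] ⧸ F[X] ∙ X ^ d i) i (Submodule.Quotient.mk (P c i)) := by
    intro c
    simp only [T₀, LinearMap.sum_apply, LinearMap.smulRight_apply, LinearMap.proj_apply, map_sum,
      Fintype.sum_sigma]
    refine Finset.sum_congr rfl fun i _ => ?_
    rw [← mul_one (P c i), ← smul_eq_mul, Submodule.Quotient.mk_smul, ← DirectSum.lof_eq_of F[X], map_smul,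
      Finset.sum_smul, DirectSum.lof_eq_of]
    refine Finset.sum_congr rfl fun j _ => ?_
    rw [show c ⟨i, j⟩ • (N ^ (j : ℕ)) (v i) = aeval N (C (c ⟨i, j⟩) * X ^ (j : ℕ)) • v i by simp,
      Module.AEval.of_aeval_smul]
    rw [map_smul]
    congr 1
    simp [v, w]
  have hcoef : ∀ (c : Idx d → F) i (j : Fin (d i)), (P c i).coeff j = c ⟨i, j⟩ := fun c i j => by
    simp only [P, finsetSum_coeff, coeff_C_mul, coeff_X_pow]
    rw [Finset.sum_eq_single j]
    · simp
    · intro l _ hl; rw [if_neg (fun e : (j : ℕ) = l => hl (Fin.ext e.symm)), mul_zero]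
    · simp
  have hcomp : ∀ (f : ∀ i, F[X] ⧸ F[X] ∙ X ^ d i) i,
      (∑ l, DirectSum.of (fun i => F[X] ⧸ F[X] ∙ X ^ d i) l (f l)) i = f i := fun f i => by
    refine (DirectSum.sum_apply (β := fun i : Fin t => F[X] ⧸ F[X] ∙ (X : F[X]) ^ d i) _ _ i).trans ?_
    rw [Finset.sum_eq_single i]
    · exact DirectSum.of_eq_same (β := fun i => F[X] ⧸ F[X] ∙ X ^ d i) i _
    · intro l _ hl
      exact DirectSum.of_eq_of_ne (β := fun i => F[X] ⧸ F[X] ∙ X ^ d i) l i _ hl.symm
    · simp
  have hinj : Function.Injective T₀ := by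
    rw [injective_iff_map_eq_zero]
    intro c hc
    funext ⟨i, j⟩
    have h := hT c
    rw [hc, map_zero, map_zero] at h
    have h' := (hcomp (fun l => Submodule.Quotient.mk (P c l)) i).symm.trans (DFinsupp.ext_iff.1 h.symm i)
    exact (hcoef c i j).symm.trans ((hdvd i _).1 h' j j.2)
  have hsur : Function.Surjective T₀ := by
    intro x
    choose Q hQ using fun i => Submodule.Quotient.mk_surjective _ (Φ (Module.AEval'.of N x) i)
    refine ⟨fun p => (Q p.1).coeff p.2, (Module.AEval'.of N).injective (Φ.injective (DFinsupp.ext fun i => ?_))⟩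
    rw [hT, hcomp, ← hQ, ← sub_eq_zero, ← Submodule.Quotient.mk_sub, hdvd]
    intro j hj
    rw [coeff_sub, sub_eq_zero]
    exact hcoef (fun p => (Q p.1).coeff p.2) i ⟨j, hj⟩
  refine ⟨t, d, LinearEquiv.ofBijective T₀ ⟨hinj, hsur⟩, fun i => ?_, ?_⟩
  · by_contra hlt
    have h0 : (X : F[X]) ^ m • w i = 0 := by
      obtain ⟨y, hy⟩ := (Module.AEval'.of N).surjective (w i)
      rw [← hy, ← Module.AEval.of_aeval_smul]
      simp [hN]
    have h1 := congrArg Φ h0
    rw [map_smul, map_zero, LinearEquiv.apply_symm_apply] at h1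
    have h2 := DFinsupp.ext_iff.1 h1 i
    rw [DFinsupp.smul_apply, show (DirectSum.of (fun i => F[X] ⧸ F[X] ∙ X ^ d i) i
      (Submodule.Quotient.mk 1)) i = Submodule.Quotient.mk 1 from DirectSum.of_eq_same _ _,
      ← Submodule.Quotient.mk_smul, DFinsupp.zero_apply, hdvd] at h2
    simpa using h2 m (by omega)
  · intro c
    show N (T₀ c) = T₀ (shift F d *ᵥ c)
    refine LinearMap.congr_fun (f := N ∘ₗ T₀) (g := T₀ ∘ₗ (shift F d).mulVecLin)
      ((Pi.basisFun F (Idx d)).ext fun p => ?_) c
    rw [Pi.basisFun_apply, LinearMap.comp_apply, LinearMap.comp_apply, Matrix.mulVecLin_apply,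
      Matrix.mulVec_single_one]
    simp only [T₀, LinearMap.sum_apply, LinearMap.smulRight_apply, LinearMap.proj_apply]
    rw [Finset.sum_eq_single p (fun q _ hq => by rw [Pi.single_eq_of_ne hq, zero_smul]) (by simp),
      Pi.single_eq_same, one_smul, ← Module.End.mul_apply, ← pow_succ']
    by_cases hlt : (p.2 : ℕ) + 1 < d p.1
    · rw [Finset.sum_eq_single (⟨p.1, ⟨p.2 + 1, hlt⟩⟩ : Idx d)]
      · rw [Matrix.col_apply, shift_apply, if_pos ⟨rfl, rfl⟩, one_smul]
      · intro q _ hq
        rw [Matrix.col_apply, shift_apply, if_neg, zero_smul]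
        rintro ⟨e1, e2⟩
        obtain ⟨k, i⟩ := q
        change k = p.1 at e1
        subst e1
        exact hq (congrArg (Sigma.mk _) (Fin.ext e2))
      · simp
    · have he : (p.2 : ℕ) + 1 = d p.1 := by have := p.2.2; omega
      rw [Finset.sum_eq_zero]
      · rw [he]
        refine (Module.AEval'.of N).injective ?_
        rw [map_zero, show (N ^ d p.1) (v p.1) = aeval N ((X : F[X]) ^ d p.1) • v p.1 by simp,
          Module.AEval.of_aeval_smul]
        show (X : F[X]) ^ d p.1 • (Module.AEval'.of N) ((Module.AEval'.of N).symm (w p.1)) = 0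
        rw [LinearEquiv.apply_symm_apply, show w p.1 = Φ.symm _ from rfl, ← map_smul,
          ← DirectSum.lof_eq_of F[X], ← map_smul, ← Submodule.Quotient.mk_smul, (hdvd p.1 _).2, map_zero,
          map_zero]
        intro j hj
        rw [smul_eq_mul, mul_one, coeff_X_pow, if_neg (by omega)]
      · intro q _
        rw [Matrix.col_apply, shift_apply, if_neg, zero_smul]
        rintro ⟨e1, e2⟩
        have h1 : (q.2 : ℕ) < d p.1 := e1 ▸ q.2.2
        omega

/-- Unipotent matrices are similar to Jordan type matrices. -/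
theorem exists_normal_form {n : Type*} [Fintype n] [DecidableEq n] (A : Matrix n n F) (m : ℕ)
    (hA : (A - 1) ^ m = 0) : ∃ (t : ℕ) (d : Fin t → ℕ) (σ : Idx d ≃ n) (P : GL n F),
      (∀ k, d k ≤ m) ∧
        A * (P : Matrix n n F) = P * Matrix.reindex σ σ (Cfsg.jordanTypeMatrix d F) := by
  classical
  obtain ⟨t, d, T, hd, hT⟩ := exists_chains (Matrix.toLinAlgEquiv' (A - 1)) m
    (by rw [← map_pow, hA, map_zero])
  have hc : Fintype.card (Idx d) = Fintype.card n := by
    have := T.finrank_eq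
    simpa [Module.finrank_pi] using this
  let σ := Fintype.equivOfCardEq hc
  let S : (n → F) ≃ₗ[F] (n → F) := (LinearEquiv.funCongrLeft F F σ).trans T
  let P : GL n F := ⟨LinearMap.toMatrix' S.toLinearMap, LinearMap.toMatrix' S.symm.toLinearMap,
    by rw [← LinearMap.toMatrix'_comp]; simp,
    by rw [← LinearMap.toMatrix'_comp]; simp⟩
  refine ⟨t, d, σ, P, hd, ?_⟩
  have key : (A - 1) * (P : Matrix n n F) = P * Matrix.reindex σ σ (shift F d) := by
    refine Matrix.toLin'.injective (LinearMap.ext fun c => ?_)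
    show Matrix.toLin' ((A - 1) * LinearMap.toMatrix' S.toLinearMap) c =
      Matrix.toLin' (LinearMap.toMatrix' S.toLinearMap * Matrix.reindex σ σ (shift F d)) c
    rw [Matrix.toLin'_mul, Matrix.toLin'_mul, Matrix.toLin'_toMatrix', LinearMap.comp_apply,
      LinearMap.comp_apply]
    show Matrix.toLinAlgEquiv' (A - 1) (T (c ∘ σ)) = T ((Matrix.reindex σ σ (shift F d) *ᵥ c) ∘ σ)
    rw [hT]
    congr 1
    funext a
    simp [Matrix.mulVec, dotProduct, ← σ.sum_comp]
  rw [show Matrix.reindex σ σ (Cfsg.jordanTypeMatrix d F) = 1 + Matrix.reindex σ σ (shift F d) by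
      rw [shift, ← Matrix.coe_reindexLinearEquiv F F σ σ, map_sub,
        Matrix.reindexLinearEquiv_one, add_sub_cancel],
    mul_add, mul_one, ← key, sub_mul, one_mul, add_sub_cancel]

end Cfsg.Agent.JordanType
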