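import Mathlib
import Cfsg.Agent.Lib.GLUnipotent.Counting

set_option autoImplicit false

/-!
The Cauchy determinant identity, and the alternating sum of margin counts it gives.
-/

namespace Cfsg.Agent.GLUnipotent

open Matrix Finset

universe u

variable {R : Type u} [CommRing R]

/-- Vandermonde type product. -/
def delta {n : ℕ} (x : Fin n → R) : R := ∏ i : Fin n, ∏ j ∈ Finset.Ioi i, (x j - x i)

section Cauchy

variable {n : ℕ}

/-- The matrix `∏_{k ≠ j} (1 - x_i y_k)`. -/
def cauchyNum (x y : Fin n → R) : Matrix (Fin n) (Fin n) R :=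
  Matrix.of fun i j => ∏ k ∈ univ.erase j, (1 - x i * y k)

/-- Coefficients of `∏_{k ≠ j} (T - y_k)`, reversed. -/
def cauchyCoeff (y : Fin n → R) : Matrix (Fin n) (Fin n) R :=
  Matrix.of fun a j => ∑ s ∈ (univ.erase j).powerset.filter (fun s => s.card = a.val), ∏ k ∈ s, -y k

theorem sum_pow_mul_coeff (t w : R) (y : Fin n → R) (j : Fin n) :
    ∑ a : Fin n, t ^ a.val * w ^ (Fin.rev a).val * cauchyCoeff y a j =
      ∏ k ∈ univ.erase j, (t * (-y k) + w) := by
  classical
  rw [Finset.prod_add]
  have hcard : (univ.erase j : Finset (Fin n)).card = n - 1 := by simp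
  simp only [cauchyCoeff, Matrix.of_apply, Finset.mul_sum]
  rw [← Finset.sum_fiberwise_of_maps_to (s := (univ.erase j).powerset) (t := univ)
    (g := fun s : Finset (Fin n) => (⟨min s.card (n - 1), by have := j.isLt; omega⟩ : Fin n))
    (fun s _ => mem_univ _)]
  refine Finset.sum_congr rfl fun a _ => ?_
  have hfil : (univ.erase j).powerset.filter (fun s => s.card = a.val) =
      (univ.erase j).powerset.filter
        (fun s => (⟨min s.card (n - 1), by have := j.isLt; omega⟩ : Fin n) = a) := by
    refine Finset.filter_congr fun s hs => ?_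
    have := Finset.card_le_card (Finset.mem_powerset.mp hs)
    rw [hcard] at this
    simp [Fin.ext_iff, this]
  rw [hfil]
  refine Finset.sum_congr rfl fun s hs => ?_
  rw [Finset.mem_filter] at hs
  have hle := Finset.card_le_card (Finset.mem_powerset.mp hs.1)
  rw [hcard] at hle
  have ha : s.card = a.val := by
    have := congrArg Fin.val hs.2
    simpa [hle] using this
  rw [Finset.prod_mul_distrib, Finset.prod_const, Finset.prod_const, ha,
    Finset.card_sdiff_of_subset (Finset.mem_powerset.mp hs.1), hcard, ha, Fin.val_rev,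
    show n - (a.val + 1) = n - 1 - a.val by omega]
  ring

theorem det_cauchyNum_eq (x y : Fin n → R) :
    (cauchyNum x y).det = delta x * (cauchyCoeff y).det := by
  have h : cauchyNum x y = Matrix.vandermonde x * cauchyCoeff y := by
    ext i j
    rw [Matrix.mul_apply]
    have := sum_pow_mul_coeff (x i) 1 y j
    simp only [one_pow, mul_one] at this
    simp only [Matrix.vandermonde_apply, this, cauchyNum, Matrix.of_apply]
    exact Finset.prod_congr rfl fun k _ => by ring
  rw [h, Matrix.det_mul, Matrix.det_vandermonde]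
  rfl

theorem det_cauchyCoeff_of_domain [IsDomain R] (y : Fin n → R) (hy : Function.Injective y) :
    (cauchyCoeff y).det = delta y := by
  classical
  have h : Matrix.projVandermonde (fun _ => (1 : R)) y * cauchyCoeff y =
      Matrix.diagonal fun i => ∏ k ∈ univ.erase i, (y i - y k) := by
    ext i j
    rw [Matrix.mul_apply]
    simp only [Matrix.projVandermonde_apply]
    rw [sum_pow_mul_coeff]
    rcases eq_or_ne i j with rfl | hij
    · rw [Matrix.diagonal_apply_eq]
      exact Finset.prod_congr rfl fun k _ => by ring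
    · rw [Matrix.diagonal_apply_ne _ hij]
      exact Finset.prod_eq_zero (Finset.mem_erase.mpr ⟨hij, mem_univ i⟩) (by ring)
  have hd := congrArg Matrix.det h
  rw [Matrix.det_mul, Matrix.det_projVandermonde, Matrix.det_diagonal] at hd
  simp only [one_mul] at hd
  have hne : ∏ i : Fin n, ∏ j ∈ Finset.Ioi i, (y i - y j) ≠ 0 := by
    refine Finset.prod_ne_zero_iff.mpr fun i _ => Finset.prod_ne_zero_iff.mpr fun j hj => ?_
    exact sub_ne_zero.mpr fun e => (Finset.mem_Ioi.mp hj).ne (hy e)
  refine mul_left_cancel₀ hne ?_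
  rw [hd]
  have hsplit : ∀ i : Fin n, univ.erase i = Finset.Ioi i ∪ Finset.Iio i := by
    intro i; ext k; simp [lt_or_lt_iff_ne, ne_comm, or_comm]
  have hdisj : ∀ i : Fin n, Disjoint (Finset.Ioi i) (Finset.Iio i) := fun i =>
    Finset.disjoint_left.mpr fun k hk hk' =>
      absurd (Finset.mem_Iio.mp hk') (not_lt.mpr (Finset.mem_Ioi.mp hk).le)
  simp only [hsplit, Finset.prod_union (hdisj _), Finset.prod_mul_distrib]
  congr 1
  rw [delta, Finset.prod_comm' (t' := univ) (s' := fun k => Finset.Ioi k)]
  intro i k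
  simp

theorem det_cauchyCoeff (y : Fin n → R) : (cauchyCoeff y).det = delta y := by
  let P := MvPolynomial (Fin n) ℤ
  have h := det_cauchyCoeff_of_domain (R := P) MvPolynomial.X MvPolynomial.X_injective
  let φ : P →+* R := MvPolynomial.eval₂Hom (Int.castRingHom R) y
  have h2 := congrArg φ h
  rw [RingHom.map_det] at h2
  have hφ : ∀ i, φ (MvPolynomial.X i) = y i := fun i => MvPolynomial.eval₂Hom_X' _ _ i
  convert h2 using 2
  · ext a j
    simp [cauchyCoeff, hφ]
  · simp [delta, hφ]

/-- The Cauchy identity in polynomial form. -/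
theorem det_cauchyNum (x y : Fin n → R) : (cauchyNum x y).det = delta x * delta y := by
  rw [det_cauchyNum_eq, det_cauchyCoeff]

/-- The Cauchy determinant with inverses of `1 - x_i y_j`. -/
theorem delta_mul_prod_eq_det (x y : Fin n → R) (g : Fin n → Fin n → R)
    (hg : ∀ i j, g i j * (1 - x i * y j) = 1) :
    delta x * delta y * ∏ i : Fin n, ∏ j : Fin n, g i j = (Matrix.of g).det := by
  classical
  rw [← det_cauchyNum, mul_comm, ← Matrix.det_mul_column]
  congr 1
  ext i j
  simp only [Matrix.of_apply, cauchyNum]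
  rw [← Finset.mul_prod_erase univ (fun k => g i k) (mem_univ j), mul_assoc, ← Finset.prod_mul_distrib,
    Finset.prod_eq_one (fun k _ => hg i k), mul_one]

end Cauchy

section Series

open MvPowerSeries

variable {n : ℕ}

/-- Exponent vector of the variable pair `(i, j)`. -/
noncomputable def pairExp (i j : Fin n) : Fin n ⊕ Fin n →₀ ℕ :=
  Finsupp.single (Sum.inl i) 1 + Finsupp.single (Sum.inr j) 1

/-- The series `1 / (1 - x_i y_j)`. -/
noncomputable def geom (i j : Fin n) : MvPowerSeries (Fin n ⊕ Fin n) ℤ :=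
  open scoped Classical in
  fun m => if ∃ k : ℕ, m = k • pairExp i j then 1 else 0

theorem coeff_geom [DecidableEq (Fin n ⊕ Fin n)] (i j : Fin n) (m : Fin n ⊕ Fin n →₀ ℕ) :
    coeff m (geom i j) = open scoped Classical in (if ∃ k : ℕ, m = k • pairExp i j then 1 else 0) := rfl

theorem geom_mul (i j : Fin n) :
    geom i j * (1 - X (Sum.inl i) * X (Sum.inr j)) = (1 : MvPowerSeries (Fin n ⊕ Fin n) ℤ) := by
  classical
  ext m
  have hX : (X (Sum.inl i) * X (Sum.inr j) : MvPowerSeries (Fin n ⊕ Fin n) ℤ) =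
      monomial (pairExp i j) 1 := by
    rw [X_def, X_def, monomial_mul_monomial, one_mul]; rfl
  rw [mul_sub, mul_one, hX, map_sub, coeff_mul_monomial, coeff_one, coeff_geom, mul_one]
  by_cases hm : pairExp i j ≤ m
  · rw [if_pos hm, coeff_geom, if_neg (show m ≠ 0 from fun e => by
      subst e
      have := hm (Sum.inl i)
      simp [pairExp] at this)]
    have hiff : (∃ k : ℕ, m = k • pairExp i j) ↔ ∃ k : ℕ, m - pairExp i j = k • pairExp i j := by
      constructor
      · rintro ⟨k, rfl⟩
        rcases k with _ | k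
        · have := hm (Sum.inl i)
          simp [pairExp] at this
        · exact ⟨k, by rw [succ_nsmul, add_tsub_cancel_right]⟩
      · rintro ⟨k, hk⟩
        exact ⟨k + 1, by rw [succ_nsmul, ← hk, tsub_add_cancel_of_le hm]⟩
    simp only [hiff, sub_self]
  · rw [if_neg hm, sub_zero]
    by_cases h0 : m = 0
    · rw [if_pos h0, if_pos ⟨0, by rw [h0, zero_nsmul]⟩]
    · rw [if_neg h0, if_neg]
      rintro ⟨k, rfl⟩
      rcases k with _ | k
      · exact h0 (zero_nsmul _)
      · exact hm (by rw [succ_nsmul]; exact le_add_self)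

/-- Exponent vector with the given components. -/
noncomputable def joinExp (r c : Fin n → ℕ) : Fin n ⊕ Fin n →₀ ℕ :=
  Finsupp.equivFunOnFinite.symm (Sum.elim r c)

theorem joinExp_apply (r c : Fin n → ℕ) (z : Fin n ⊕ Fin n) : joinExp r c z = Sum.elim r c z := rfl

theorem sum_nsmul_pairExp (N : Fin n → Fin n → ℕ) :
    ∑ ij : Fin n × Fin n, N ij.1 ij.2 • pairExp ij.1 ij.2 =
      joinExp (fun i => ∑ j, N i j) (fun j => ∑ i, N i j) := by
  classical
  ext z
  rw [joinExp_apply, Finsupp.finsetSum_apply, Fintype.sum_prod_type]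
  rcases z with a | a
  · simp [pairExp, Finsupp.single_apply, mul_ite, Finset.sum_ite_irrel]
  · simp [pairExp, Finsupp.single_apply, mul_ite]

theorem coeff_prod_geom (r c : Fin n → ℕ) :
    coeff (joinExp r c) (∏ i : Fin n, ∏ j : Fin n, geom i j) = (numMargins r c : ℤ) := by
  classical
  rw [← Fintype.prod_prod_type' (f := fun i j => geom i j), coeff_prod]
  simp only [coeff_geom]
  set S := (Finset.univ : Finset (Fin n × Fin n)).finsuppAntidiag (joinExp r c)
  have hprod : ∀ l : (Fin n × Fin n) →₀ (Fin n ⊕ Fin n →₀ ℕ),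
      (∏ ij : Fin n × Fin n, if ∃ k : ℕ, l ij = k • pairExp ij.1 ij.2 then (1 : ℤ) else 0) =
        if ∀ ij : Fin n × Fin n, ∃ k : ℕ, l ij = k • pairExp ij.1 ij.2 then 1 else 0 := by
    intro l
    rw [Fintype.prod_boole]
  rw [Finset.sum_congr rfl fun l _ => hprod l, Finset.sum_boole, numMargins, Nat.cast_inj,
    ← Fintype.card_coe, ← Nat.card_eq_fintype_card]
  symm
  have hz : ∀ (ij : Fin n × Fin n) (k : ℕ), (k • pairExp ij.1 ij.2) (Sum.inl ij.1) = k := by
    intro ij k; simp [pairExp]
  refine Nat.card_congr (Equiv.ofBijective (fun N => ⟨Finsupp.equivFunOnFinite.symm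
    (fun ij : Fin n × Fin n => N.1 ij.1 ij.2 • pairExp ij.1 ij.2), ?_⟩) ⟨?_, ?_⟩)
  · rw [Finset.mem_filter, Finset.mem_finsuppAntidiag]
    refine ⟨⟨?_, Finset.subset_univ _⟩, fun ij => ⟨_, rfl⟩⟩
    show ∑ ij : Fin n × Fin n, N.1 ij.1 ij.2 • pairExp ij.1 ij.2 = _
    rw [sum_nsmul_pairExp, funext N.2.1, funext N.2.2]
  · intro N N' h
    refine Subtype.ext (funext fun i => funext fun j => ?_)
    have h1 := DFunLike.congr_fun (congrArg Subtype.val h) (i, j)
    have h2 := DFunLike.congr_fun h1 (Sum.inl i)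
    rwa [Finsupp.equivFunOnFinite_symm_apply_apply, Finsupp.equivFunOnFinite_symm_apply_apply,
      hz (i, j), hz (i, j)] at h2
  · rintro ⟨l, hl⟩
    rw [Finset.mem_filter, Finset.mem_finsuppAntidiag] at hl
    choose k hk using hl.2
    have hsum : ∑ ij : Fin n × Fin n, k ij • pairExp ij.1 ij.2 = joinExp r c := by
      rw [← hl.1.1]; exact Finset.sum_congr rfl fun ij _ => (hk ij).symm
    rw [show (fun ij : Fin n × Fin n => k ij • pairExp ij.1 ij.2) =
      fun ij => (fun i j => k (i, j)) ij.1 ij.2 • pairExp ij.1 ij.2 from rfl,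
      sum_nsmul_pairExp (fun i j => k (i, j))] at hsum
    exact ⟨⟨fun i j => k (i, j), fun i => DFunLike.congr_fun hsum (Sum.inl i),
      fun j => DFunLike.congr_fun hsum (Sum.inr j)⟩,
      Subtype.ext (Finsupp.ext fun ij => (hk ij).symm)⟩

theorem delta_X_eq (f : Fin n → Fin n ⊕ Fin n) :
    delta (fun i => (X (f i) : MvPowerSeries (Fin n ⊕ Fin n) ℤ)) =
      ∑ κ : Equiv.Perm (Fin n), ((Equiv.Perm.sign κ : ℤ) : MvPowerSeries (Fin n ⊕ Fin n) ℤ) *
        monomial (∑ i, Finsupp.single (f i) (κ i).val) 1 := by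
  rw [delta, ← Matrix.det_vandermonde, ← Matrix.det_transpose, Matrix.det_apply']
  refine Finset.sum_congr rfl fun κ _ => ?_
  congr 1
  simp only [Matrix.transpose_apply, Matrix.vandermonde_apply, X_pow_eq]
  induction (Finset.univ : Finset (Fin n)) using Finset.induction_on with
  | empty => simp [← monomial_zero_eq_C_apply]
  | insert a s ha ih => rw [Finset.prod_insert ha, Finset.sum_insert ha, ih, monomial_mul_monomial, one_mul]

theorem sum_single_inl_inr (κ κ' : Fin n → ℕ) :
    (∑ i, Finsupp.single (Sum.inl i : Fin n ⊕ Fin n) (κ i)) + ∑ i, Finsupp.single (Sum.inr i) (κ' i) =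
      joinExp κ κ' := by
  classical
  ext z
  rw [joinExp_apply, Finsupp.add_apply, Finsupp.finsetSum_apply, Finsupp.finsetSum_apply]
  rcases z with a | a <;> simp [Finsupp.single_apply]

theorem coeff_geom_perm (σ : Equiv.Perm (Fin n)) (r c : Fin n → ℕ) :
    coeff (joinExp r c) (∏ i : Fin n, geom (σ i) i) = if r ∘ σ = c then 1 else 0 := by
  classical
  rw [coeff_prod]
  simp only [coeff_geom]
  have hprod : ∀ l : Fin n →₀ (Fin n ⊕ Fin n →₀ ℕ),
      (∏ i : Fin n, if ∃ k : ℕ, l i = k • pairExp (σ i) i then (1 : ℤ) else 0) =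
        if ∀ i : Fin n, ∃ k : ℕ, l i = k • pairExp (σ i) i then 1 else 0 := by
    intro l
    rw [Fintype.prod_boole]
    congr
  rw [Finset.sum_congr rfl fun l _ => hprod l, Finset.sum_boole]
  by_cases h : r ∘ σ = c
  · rw [if_pos h, Nat.cast_eq_one, Finset.card_eq_one]
    refine ⟨Finsupp.equivFunOnFinite.symm fun i => c i • pairExp (σ i) i, ?_⟩
    ext l
    rw [Finset.mem_filter, Finset.mem_finsuppAntidiag, Finset.mem_singleton]
    constructor
    · rintro ⟨⟨hsum, -⟩, hk⟩
      choose k hk using hk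
      ext i : 1
      have := DFunLike.congr_fun hsum (Sum.inr i)
      rw [Finsupp.finsetSum_apply, Finset.sum_eq_single i] at this
      · rw [hk i] at this ⊢
        simp only [Finsupp.equivFunOnFinite_symm_apply_apply]
        congr 1
        simpa [pairExp, joinExp_apply] using this
      · intro b _ hb; rw [hk b]; simp [pairExp, hb]
      · simp
    · rintro rfl
      refine ⟨⟨?_, Finset.subset_univ _⟩, fun i => ⟨_, rfl⟩⟩
      ext z
      rw [Finsupp.finsetSum_apply, joinExp_apply]
      rcases z with a | a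
      · rw [Finset.sum_eq_single (σ.symm a)]
        · simp [pairExp, ← h]
        · intro b _ hb
          have : σ b ≠ a := fun e => hb (by rw [← e]; simp)
          simp [pairExp, this]
        · simp
      · rw [Finset.sum_eq_single a]
        · simp [pairExp]
        · intro b _ hb; simp [pairExp, hb]
        · simp
  · rw [if_neg h, Nat.cast_eq_zero, Finset.card_eq_zero]
    refine Finset.filter_eq_empty_iff.mpr fun l hl hk => h ?_
    rw [Finset.mem_finsuppAntidiag] at hl
    choose k hk using hk
    funext i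
    have h1 := DFunLike.congr_fun hl.1 (Sum.inl (σ i))
    have h2 := DFunLike.congr_fun hl.1 (Sum.inr i)
    rw [Finsupp.finsetSum_apply, Finset.sum_eq_single i, hk i] at h1 h2
    · simp [pairExp, joinExp_apply] at h1 h2
      simp [Function.comp_apply, ← h1, ← h2]
    all_goals first | (intro b _ hb; rw [hk b]; simp [pairExp, hb]) | simp

/-- The alternating sum of margin counts is the Kronecker delta on strictly increasing sequences. -/
theorem alternating_numMargins (l l' : Fin n → ℕ) (hl : StrictMono l) (hl' : StrictMono l') :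
    ∑ κ : Equiv.Perm (Fin n), ∑ κ' : Equiv.Perm (Fin n),
      (if (∀ i, (κ i).val ≤ l i) ∧ ∀ i, (κ' i).val ≤ l' i then
        ((Equiv.Perm.sign κ : ℤ) * (Equiv.Perm.sign κ' : ℤ)) *
          (numMargins (fun i => l i - (κ i).val) (fun i => l' i - (κ' i).val) : ℤ) else 0) =
      if l = l' then 1 else 0 := by
  classical
  have h := congrArg (coeff (joinExp l l'))
    (delta_mul_prod_eq_det (fun i => (X (Sum.inl i) : MvPowerSeries (Fin n ⊕ Fin n) ℤ))
      (fun j => X (Sum.inr j)) geom geom_mul)
  rw [delta_X_eq, delta_X_eq, Finset.sum_mul_sum, Finset.sum_mul, map_sum, Matrix.det_apply',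
    map_sum] at h
  have hrhs : ∀ σ : Equiv.Perm (Fin n), coeff (joinExp l l')
      (((Equiv.Perm.sign σ : ℤ) : MvPowerSeries (Fin n ⊕ Fin n) ℤ) *
        ∏ i, (Matrix.of geom) (σ i) i) = if σ = 1 ∧ l = l' then 1 else 0 := by
    intro σ
    rw [← map_intCast (MvPowerSeries.C (σ := Fin n ⊕ Fin n) (R := ℤ)), Int.cast_id, coeff_C_mul]
    simp only [Matrix.of_apply, coeff_geom_perm]
    by_cases hσ : σ = 1 ∧ l = l'
    · obtain ⟨rfl, rfl⟩ := hσ
      simp
    · rw [if_neg hσ, if_neg, mul_zero]
      intro he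
      apply hσ
      have hmono : StrictMono σ := fun a b hab => by
        have := hl' hab
        rw [← he] at this
        exact hl.lt_iff_lt.mp this
      have h1 : σ = 1 := Equiv.ext fun a => congrFun hmono.eq_id a
      subst h1
      exact ⟨rfl, he⟩
  rw [Finset.sum_congr rfl fun σ _ => hrhs σ] at h
  rw [show (∑ σ : Equiv.Perm (Fin n), if σ = 1 ∧ l = l' then (1 : ℤ) else 0) = if l = l' then 1 else 0
    by by_cases hll : l = l' <;> simp [hll]] at h
  rw [← h]
  refine Finset.sum_congr rfl fun κ _ => ?_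
  rw [Finset.sum_mul, map_sum]
  refine Finset.sum_congr rfl fun κ' _ => ?_
  rw [mul_mul_mul_comm, monomial_mul_monomial, one_mul, sum_single_inl_inr, ← Int.cast_mul,
    ← map_intCast (MvPowerSeries.C (σ := Fin n ⊕ Fin n) (R := ℤ)), Int.cast_id]
  conv_rhs => rw [mul_assoc, coeff_C_mul, coeff_monomial_mul, one_mul]
  have hle : joinExp (fun i => (κ i).val) (fun i => (κ' i).val) ≤ joinExp l l' ↔
      (∀ i, (κ i).val ≤ l i) ∧ ∀ i, (κ' i).val ≤ l' i :=
    ⟨fun h => ⟨fun i => h (Sum.inl i), fun i => h (Sum.inr i)⟩,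
      fun h z => by rcases z with a | a <;> [exact h.1 a; exact h.2 a]⟩
  simp only [hle]
  split_ifs with hc
  · have : joinExp l l' - joinExp (fun i => (κ i).val) (fun i => (κ' i).val) =
        joinExp (fun i => l i - (κ i).val) (fun i => l' i - (κ' i).val) := by
      ext z; rcases z with a | a <;> rfl
    rw [this, coeff_prod_geom]
  · rw [mul_zero]

end Series

end Cfsg.Agent.GLUnipotent
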