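import Mathlib
import Cfsg.Agent.Lib.GLUnipotent.Cauchy
import Cfsg.Agent.Lib.CT.Orthogonality

set_option autoImplicit false

/-!
Orthonormality and irreducibility of the partition-indexed characters of `GL_n(q)`.
-/

namespace Cfsg.Agent.GLUnipotent

open Matrix Finset
open scoped ComplexConjugate

universe u

variable {n : ℕ} {F : Type u} [Field F] [Fintype (GL (Fin n) F)]

variable (F) in
/-- The flag permutation character of a composition. -/
noncomputable def flagChar (μ : Fin n → ℕ) : GL (Fin n) F → ℂ :=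
  Cfsg.fixedPointCharacter (Cfsg.parabolicGL n F μ)

theorem isCharacter_flagChar (μ : Fin n → ℕ) : Cfsg.IsCharacter (GL (Fin n) F) (flagChar F μ) :=
  CT.isCharacter_perm _

theorem sum_sub_perm {ν : Fin n → ℕ} (hν : ∑ i, ν i = n) {κ : Equiv.Perm (Fin n)}
    (h : ∀ i, (κ i).val ≤ ν i + i.val) : ∑ i, (ν i + i.val - (κ i).val) = n := by
  have h1 : ∑ i, (ν i + i.val - (κ i).val) + ∑ i, (κ i).val = ∑ i, (ν i + i.val) := by
    rw [← Finset.sum_add_distrib]
    exact Finset.sum_congr rfl fun i _ => Nat.sub_add_cancel (h i)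
  rw [Equiv.sum_comp κ (fun i : Fin n => i.val), Finset.sum_add_distrib, hν] at h1
  omega

theorem strictMono_shift {ν : Fin n → ℕ} (hν : Monotone ν) :
    StrictMono fun i : Fin n => ν i + i.val := fun a b hab => by
  have := hν hab.le
  have := Fin.lt_def.mp hab
  show ν a + a.val < ν b + b.val
  omega

theorem sq_lt {ν : Fin n → ℕ} (hν : Monotone ν) {κ : Equiv.Perm (Fin n)} (hκ : κ ≠ 1)
    (h : ∀ i, (κ i).val ≤ ν i + i.val) :
    ∑ i, ν i ^ 2 < ∑ i, (ν i + i.val - (κ i).val) ^ 2 := by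
  have hl := strictMono_shift hν
  have hmono : Monovary (fun i : Fin n => ((ν i + i.val : ℕ) : ℤ)) (fun i : Fin n => (i.val : ℤ)) := by
    intro i j hij
    have hij' : i.val < j.val := by simpa using hij
    exact Nat.cast_le.mpr (hl (Fin.lt_def.mpr hij')).le
  have hlt := (hmono.sum_mul_comp_perm_lt_sum_mul_iff (σ := κ)).mpr fun hmv => hκ (by
    have hs : StrictMono κ := by
      intro a b hab
      by_contra hc
      push Not at hc
      rcases hc.lt_or_eq with hlt' | heq
      · have h1 := hmv (show ((fun i : Fin n => (i.val : ℤ)) ∘ κ) b <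
          ((fun i : Fin n => (i.val : ℤ)) ∘ κ) a by simpa using hlt')
        simp only [Nat.cast_le] at h1
        exact absurd (hl hab) (not_lt.mpr h1)
      · exact absurd (κ.injective heq) hab.ne'
    exact Equiv.ext fun a => congrFun hs.eq_id a)
  have hsum : ∑ i, ((κ i).val : ℤ) ^ 2 = ∑ i : Fin n, (i.val : ℤ) ^ 2 :=
    Equiv.sum_comp κ fun i : Fin n => (i.val : ℤ) ^ 2
  have key : ((∑ i, ν i ^ 2 : ℕ) : ℤ) < ((∑ i, (ν i + i.val - (κ i).val) ^ 2 : ℕ) : ℤ) := by
    push_cast [Nat.cast_sub (h _)]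
    have e : ∀ i : Fin n, ((ν i : ℤ) + i.val - (κ i).val) ^ 2 =
        (ν i : ℤ) ^ 2 + (2 * (((ν i : ℤ) + i.val) * i.val) - 2 * (((ν i : ℤ) + i.val) * (κ i).val))
          + (((κ i).val : ℤ) ^ 2 - (i.val : ℤ) ^ 2) := fun i => by ring
    simp only [e, Finset.sum_add_distrib, Finset.sum_sub_distrib, ← Finset.mul_sum, hsum]
    push_cast at hlt
    linarith
  exact_mod_cast key

variable [Finite F]

theorem inner_flagChar {μ μ' : Fin n → ℕ} (h : ∑ i, μ i = n) (h' : ∑ i, μ' i = n) :
    Cfsg.classInner (flagChar F μ) (flagChar F μ') = (numMargins μ μ' : ℂ) :=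
  classInner_parabolic h h'

/-- The flag character depends only on the multiset of parts. -/
theorem flagChar_comp {μ : Fin n → ℕ} (h : ∑ i, μ i = n) (e : Equiv.Perm (Fin n)) :
    flagChar F (μ ∘ e) = flagChar F μ := by
  have h' : ∑ i, (μ ∘ e) i = n := (Equiv.sum_comp e μ).trans h
  refine sub_eq_zero.mp (CT.classInner_self_eq_zero ?_)
  rw [CT.classInner_sub_left, CT.classInner_sub_right, CT.classInner_sub_right, inner_flagChar h' h',
    inner_flagChar h' h, inner_flagChar h h', inner_flagChar h h]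
  have e1 : numMargins (μ ∘ e) (μ ∘ e) = numMargins μ μ := numMargins_comp μ μ e e
  have e2 : numMargins (μ ∘ e) μ = numMargins μ μ := numMargins_comp μ μ e 1
  have e3 : numMargins μ (μ ∘ e) = numMargins μ μ := numMargins_comp μ μ 1 e
  rw [e1, e2, e3]
  ring

omit [Finite F] [Fintype (GL (Fin n) F)] in
theorem unipotent_eq_sum (ν : Fin n → ℕ) : Cfsg.unipotentCharacterGL n F ν =
    ∑ κ ∈ Finset.univ.filter (fun κ : Equiv.Perm (Fin n) => ∀ i, (κ i).val ≤ ν i + i.val),
      ((Equiv.Perm.sign κ : ℤ) : ℂ) • flagChar F (fun i => ν i + i.val - (κ i).val) := by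
  funext g
  rw [Finset.sum_apply]
  simp only [Pi.smul_apply, smul_eq_mul, Finset.sum_filter]
  exact Finset.sum_congr rfl fun κ _ => rfl

theorem inner_unipotent {ν ν' : Fin n → ℕ} (hν : Monotone ν) (hs : ∑ i, ν i = n)
    (hν' : Monotone ν') (hs' : ∑ i, ν' i = n) :
    Cfsg.classInner (Cfsg.unipotentCharacterGL n F ν) (Cfsg.unipotentCharacterGL n F ν') =
      if ν = ν' then 1 else 0 := by
  rw [unipotent_eq_sum, unipotent_eq_sum, CT.classInner_sum_left]
  simp only [CT.classInner_sum_right, CT.classInner_smul_left, CT.classInner_smul_right, map_intCast]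
  have h := alternating_numMargins _ _ (strictMono_shift hν) (strictMono_shift hν')
  have hiff : ((fun i : Fin n => ν i + i.val) = fun i => ν' i + i.val) ↔ ν = ν' :=
    ⟨fun e => funext fun i => by simpa using congrFun e i, fun e => by rw [e]⟩
  simp only [hiff] at h
  have h2 := congrArg (fun z : ℤ => (z : ℂ)) h
  simp only [Int.cast_sum, apply_ite (fun z : ℤ => (z : ℂ)), Int.cast_mul, Int.cast_one, Int.cast_zero,
    Int.cast_natCast] at h2
  rw [← h2, Finset.sum_filter]
  refine Finset.sum_congr rfl fun κ _ => ?_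
  by_cases hκ : ∀ i, (κ i).val ≤ ν i + i.val
  · rw [if_pos hκ, Finset.sum_filter]
    refine Finset.sum_congr rfl fun κ' _ => ?_
    by_cases hκ' : ∀ i, (κ' i).val ≤ ν' i + i.val
    · rw [if_pos hκ', if_pos ⟨hκ, hκ'⟩, inner_flagChar (sum_sub_perm hs hκ) (sum_sub_perm hs' hκ')]
      ring
    · rw [if_neg hκ', if_neg fun hh => hκ' hh.2]
  · rw [if_neg hκ]
    exact (Finset.sum_eq_zero fun κ' _ => if_neg fun hh => hκ hh.1).symm

theorem isClassFunction_unipotent (ν : Fin n → ℕ) :
    Cfsg.IsClassFunction (GL (Fin n) F) (Cfsg.unipotentCharacterGL n F ν) := by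
  rw [unipotent_eq_sum]
  refine CT.isClassFunction_sum _ fun κ _ g x => ?_
  simp only [Pi.smul_apply, CT.isClassFunction_of_isCharacter (isCharacter_flagChar _) g x]

/-- The character of a partition is orthogonal to flag characters of larger compositions. -/
theorem inner_flagChar_eq_zero {ν₀ : Fin n → ℕ} (hν₀ : Monotone ν₀) (hs₀ : ∑ i, ν₀ i = n) :
    ∀ (k : ℕ) (μ : Fin n → ℕ), ∑ i, μ i = n → n ^ 2 + 1 - ∑ i, μ i ^ 2 ≤ k →
      ∑ i, ν₀ i ^ 2 < ∑ i, μ i ^ 2 →
      Cfsg.classInner (Cfsg.unipotentCharacterGL n F ν₀) (flagChar F μ) = 0 := by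
  intro k
  induction k with
  | zero =>
    intro μ hμ hk _
    exfalso
    have h1 : ∑ i, μ i ^ 2 ≤ ∑ i, n * μ i := Finset.sum_le_sum fun i _ => by
      rw [pow_two]
      exact Nat.mul_le_mul_right _ (hμ ▸ Finset.single_le_sum (fun j _ => Nat.zero_le _) (mem_univ i))
    rw [← Finset.mul_sum, hμ, ← pow_two] at h1
    omega
  | succ k ih =>
    intro μ hμ hk hgt
    set ν := μ ∘ Tuple.sort μ with hνdef
    have hν : Monotone ν := Tuple.monotone_sort μ
    have hs : ∑ i, ν i = n := (Equiv.sum_comp (Tuple.sort μ) μ).trans hμ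
    have hsq : ∑ i, ν i ^ 2 = ∑ i, μ i ^ 2 := Equiv.sum_comp (Tuple.sort μ) fun i => μ i ^ 2
    rw [← flagChar_comp hμ (Tuple.sort μ), ← hνdef]
    have hne : ν₀ ≠ ν := fun e => by subst e; omega
    have h1 := inner_unipotent (F := F) hν₀ hs₀ hν hs
    have hone : (1 : Equiv.Perm (Fin n)) ∈
        Finset.univ.filter (fun κ : Equiv.Perm (Fin n) => ∀ i, (κ i).val ≤ ν i + i.val) := by
      simp
    rw [if_neg hne, unipotent_eq_sum ν, CT.classInner_sum_right, Finset.sum_eq_single 1] at h1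
    · simpa [CT.classInner_smul_right] using h1
    · intro κ hκ hκ1
      rw [Finset.mem_filter] at hκ
      rw [CT.classInner_smul_right, ih _ (sum_sub_perm hs hκ.2) (by
        have := sq_lt hν hκ1 hκ.2
        omega) (by
        have := sq_lt hν hκ1 hκ.2
        omega), mul_zero]
    · exact fun hh => absurd hone hh

theorem inner_flagChar_self {ν : Fin n → ℕ} (hν : Monotone ν) (hs : ∑ i, ν i = n) :
    Cfsg.classInner (Cfsg.unipotentCharacterGL n F ν) (flagChar F ν) = 1 := by
  have h1 := inner_unipotent (F := F) hν hs hν hs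
  have hone : (1 : Equiv.Perm (Fin n)) ∈
      Finset.univ.filter (fun κ : Equiv.Perm (Fin n) => ∀ i, (κ i).val ≤ ν i + i.val) := by
    simp
  rw [if_pos rfl] at h1
  conv_lhs at h1 => arg 2; rw [unipotent_eq_sum ν]
  rw [CT.classInner_sum_right, Finset.sum_eq_single 1] at h1
  · simpa [CT.classInner_smul_right] using h1
  · intro κ hκ hκ1
    rw [Finset.mem_filter] at hκ
    rw [CT.classInner_smul_right,
      inner_flagChar_eq_zero hν hs _ _ (sum_sub_perm hs hκ.2) le_rfl (sq_lt hν hκ1 hκ.2), mul_zero]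
  · exact fun hh => absurd hone hh

theorem exists_int_inner (ν : Fin n → ℕ) {ψ : GL (Fin n) F → ℂ}
    (hψ : Cfsg.IsCharacter (GL (Fin n) F) ψ) :
    ∃ m : ℤ, Cfsg.classInner (Cfsg.unipotentCharacterGL n F ν) ψ = m := by
  choose a ha using fun κ : Equiv.Perm (Fin n) => CT.classInner_character_nat
    (isCharacter_flagChar (F := F) fun i => ν i + i.val - (κ i).val) hψ
  refine ⟨∑ κ ∈ Finset.univ.filter (fun κ : Equiv.Perm (Fin n) => ∀ i, (κ i).val ≤ ν i + i.val),
    (Equiv.Perm.sign κ : ℤ) * a κ, ?_⟩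
  rw [unipotent_eq_sum, CT.classInner_sum_left]
  push_cast
  exact Finset.sum_congr rfl fun κ _ => by rw [CT.classInner_smul_left, ha]

theorem isIrr_unipotent {ν : Fin n → ℕ} (hν : Monotone ν) (hs : ∑ i, ν i = n) :
    Cfsg.IsIrrCharacter (GL (Fin n) F) (Cfsg.unipotentCharacterGL n F ν) := by
  classical
  set f := Cfsg.unipotentCharacterGL n F ν with hf
  have hcf : Cfsg.IsClassFunction (GL (Fin n) F) f := isClassFunction_unipotent ν
  choose m hm using fun χ : Cfsg.IrrCharacter (GL (Fin n) F) =>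
    exists_int_inner (F := F) ν (CT.isCharacter_of_isIrr χ.2)
  have hsum : ((∑ χ, m χ ^ 2 : ℤ) : ℂ) = ((1 : ℤ) : ℂ) := by
    have h1 := inner_unipotent (F := F) hν hs hν hs
    rw [if_pos rfl, CT.classInner_eq_sum hcf] at h1
    rw [Int.cast_one, ← h1, Int.cast_sum]
    exact Finset.sum_congr rfl fun χ _ => by rw [hm χ]; simp [pow_two]
  have hsum' : ∑ χ, m χ ^ 2 = (1 : ℤ) := Int.cast_injective hsum
  obtain ⟨χ₀, hχ₀⟩ : ∃ χ, m χ ≠ 0 := by
    by_contra hh
    push Not at hh
    simp [hh] at hsum'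
  have hrest : ∀ χ, χ ≠ χ₀ → m χ = 0 := by
    intro χ hχ
    by_contra hne
    have := Finset.sum_le_sum_of_subset_of_nonneg (f := fun c => m c ^ 2)
      (Finset.subset_univ {χ₀, χ}) (fun c _ _ => sq_nonneg _)
    rw [Finset.sum_pair hχ.symm, hsum'] at this
    nlinarith [Int.one_le_abs hne, Int.one_le_abs hχ₀, sq_abs (m χ), sq_abs (m χ₀)]
  have hsq : m χ₀ ^ 2 = 1 := by
    rw [← hsum', Finset.sum_eq_single χ₀ (fun b _ hb => by simp [hrest b hb]) (by simp)]
  have hfe : f = (m χ₀ : ℂ) • (χ₀ : GL (Fin n) F → ℂ) := by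
    rw [CT.classFunction_eq_sum hcf, Finset.sum_eq_single χ₀]
    · rw [hm χ₀]
    · intro b _ hb; rw [hm b, hrest b hb, Int.cast_zero, zero_smul]
    · simp
  obtain ⟨a, ha⟩ := CT.classInner_character_nat (CT.isCharacter_of_isIrr χ₀.2)
    (isCharacter_flagChar (F := F) ν)
  have hpos := inner_flagChar_self (F := F) hν hs
  rw [← hf, hfe, CT.classInner_smul_left, ha] at hpos
  have h5 : m χ₀ * (a : ℤ) = 1 := by exact_mod_cast hpos
  have hone : m χ₀ = 1 := by
    rcases Int.eq_one_or_neg_one_of_mul_eq_one h5 with h6 | h6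
    · exact h6
    · rw [h6] at h5
      omega
  rw [hfe, hone, Int.cast_one, one_smul]
  exact χ₀.2

end Cfsg.Agent.GLUnipotent
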