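import Cfsg.Agent.Lib.GLUnipotent.Characters
import Cfsg.Agent.S2420
import Mathlib.LinearAlgebra.Vandermonde

/-!
The degrees of the partition-indexed characters of `GL_n(q)`: the alternating sum of flag counts is a
determinant of falling `q`-factorials, hence a Vandermonde determinant in the `q`-integers.
-/

set_option autoImplicit false

namespace Cfsg.Agent.GLUnipotent

open Matrix Polynomial

/-- The `q`-integer in a ring. -/
noncomputable def qI (q r : ℕ) : ℂ := ((∑ l ∈ Finset.range r, q ^ l : ℕ) : ℂ)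

/-- The `q`-factorial in a ring. -/
noncomputable def qFac (q r : ℕ) : ℂ := ∏ j ∈ Finset.range r, qI q (j + 1)

theorem qI_zero (q : ℕ) : qI q 0 = 0 := by simp [qI]

theorem qI_add (q a b : ℕ) : qI q (a + b) = qI q a + (q : ℂ) ^ a * qI q b := by
  simp only [qI, Nat.cast_sum, Nat.cast_pow]
  rw [Finset.sum_range_add, Finset.mul_sum]
  congr 1
  exact Finset.sum_congr rfl fun l _ => pow_add _ _ _

theorem qFac_falling (q : ℕ) {j x : ℕ} (h : j ≤ x) :
    qFac q x = qFac q (x - j) * ∏ k ∈ Finset.range j, qI q (x - k) := by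
  induction j with
  | zero => simp
  | succ j ih =>
    rw [ih (by omega), Finset.prod_range_succ, show x - j = (x - (j + 1)) + 1 by omega, qFac, qFac,
      Finset.prod_range_succ]
    ring

/-- The shifted falling product is a polynomial in the `q`-integer. -/
theorem falling_eq (q j x : ℕ) :
    (q : ℂ) ^ j.choose 2 * ∏ k ∈ Finset.range j, qI q (x - k) =
      ∏ k ∈ Finset.range j, (qI q x - qI q k) := by
  by_cases hx : x < j
  · rw [Finset.prod_eq_zero (Finset.mem_range.2 hx) (by rw [Nat.sub_self, qI_zero]),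
      Finset.prod_eq_zero (Finset.mem_range.2 hx) (sub_self _), mul_zero]
  push Not at hx
  induction j with
  | zero => simp
  | succ j ih =>
    rw [Finset.prod_range_succ, Finset.prod_range_succ, ← ih (by omega), Nat.choose_succ_succ' j 1,
      Nat.choose_one_right, pow_add]
    have e := qI_add q j (x - j)
    rw [show j + (x - j) = x by omega] at e
    rw [show qI q x - qI q j = (q : ℂ) ^ j * qI q (x - j) by rw [e, add_sub_cancel_left]]
    ring

theorem sum_choose_two (n : ℕ) : ∑ j ∈ Finset.range n, j.choose 2 = n.choose 3 := by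
  induction n with
  | zero => rfl
  | succ n ih => rw [Finset.sum_range_succ, ih, Nat.choose_succ_succ' n 2, add_comm]

theorem choose_three (n : ℕ) : n.choose 3 = n * (n - 1) * (n - 2) / 6 := by
  rw [Nat.choose_eq_descFactorial_div_factorial]
  simp [Nat.descFactorial, Nat.factorial, mul_comm, mul_left_comm, mul_assoc]

/-- The degree of a partition-indexed character. -/
theorem degree_eq {F : Type*} [Field F] [Fintype F] {q : ℕ} (hq : Fintype.card F = q) {n : ℕ}
    (ν : Fin n → ℕ) (hsum : ∑ i, ν i = n) :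
    Cfsg.unipotentCharacterGL n F ν 1 * (q : ℂ) ^ n.choose 3 * ∏ i : Fin n, qFac q (ν i + i.val) =
      qFac q n * ∏ i : Fin n, ∏ j ∈ Finset.Ioi i, (qI q (ν j + j.val) - qI q (ν i + i.val)) := by
  classical
  set x : Fin n → ℕ := fun i => ν i + i.val with hx
  have h1 : Cfsg.unipotentCharacterGL n F ν 1 * ∏ i : Fin n, qFac q (x i) =
      qFac q n * (Matrix.of fun i j : Fin n => ∏ k ∈ Finset.range j.val, qI q (x i - k)).det := by
    rw [← Matrix.det_transpose, Matrix.det_apply', Finset.mul_sum]
    show (∑ κ : Equiv.Perm (Fin n), _) * _ = _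
    rw [Finset.sum_mul]
    refine Finset.sum_congr rfl fun κ _ => ?_
    simp only [Matrix.transpose_apply, Matrix.of_apply]
    by_cases hκ : ∀ i, (κ i).val ≤ x i
    · rw [if_pos hκ]
      have hidx := S2420.result hq (fun i => x i - (κ i).val) (sum_sub_perm hsum hκ)
      have hidx' : (Nat.card (GL (Fin n) F ⧸ Cfsg.parabolicGL n F (fun i => x i - (κ i).val)) : ℂ) *
          ∏ i : Fin n, qFac q (x i - (κ i).val) = qFac q n := by
        have := congrArg (fun t : ℕ => (t : ℂ)) hidx
        simp only [qFac, qI] at *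
        push_cast at this ⊢
        exact this
      rw [Cfsg.fixedPointCharacter, MulAction.fixedBy_one_eq_univ, Nat.card_univ,
        Finset.prod_congr rfl fun i (_ : i ∈ Finset.univ) => qFac_falling q (hκ i), Finset.prod_mul_distrib,
        ← hidx']
      ring
    · rw [if_neg hκ, zero_mul]
      push Not at hκ
      obtain ⟨i, hi⟩ := hκ
      rw [Finset.prod_eq_zero (Finset.mem_univ i) (Finset.prod_eq_zero (Finset.mem_range.2 hi)
        (by rw [Nat.sub_self, qI_zero])), mul_zero, mul_zero]
  let P : Fin n → ℂ[X] := fun j => ∏ k ∈ Finset.range j.val, (X - C (qI q k))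
  have hdeg : ∀ j, (P j).natDegree = j := fun j => by
    simp only [P]
    rw [Polynomial.natDegree_prod_of_monic _ _ (fun k _ => monic_X_sub_C _)]
    simp
  have hmon : ∀ j, (P j).Monic := fun j => monic_prod_of_monic _ _ fun k _ => monic_X_sub_C _
  have h2 : (q : ℂ) ^ n.choose 3 *
      (Matrix.of fun i j : Fin n => ∏ k ∈ Finset.range j.val, qI q (x i - k)).det =
      ∏ i : Fin n, ∏ j ∈ Finset.Ioi i, (qI q (x j) - qI q (x i)) := by
    rw [← Matrix.det_vandermonde, Matrix.det_eval_matrixOfPolynomials_eq_det_vandermonde _ P hdeg hmon,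
      ← sum_choose_two, ← Finset.prod_pow_eq_pow_sum, ← Fin.prod_univ_eq_prod_range, ← Matrix.det_mul_row]
    congr 1
    ext i j
    simp only [Matrix.of_apply, P, eval_prod, eval_sub, eval_X, eval_C]
    exact falling_eq q j.val (x i)
  calc Cfsg.unipotentCharacterGL n F ν 1 * (q : ℂ) ^ n.choose 3 * ∏ i : Fin n, qFac q (x i)
      = (q : ℂ) ^ n.choose 3 * (Cfsg.unipotentCharacterGL n F ν 1 * ∏ i : Fin n, qFac q (x i)) := by ring
    _ = _ := by rw [h1, mul_left_comm, h2]

theorem prod_gaps (q : ℕ) : ∀ n : ℕ,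
    ∏ i : Fin n, ∏ j ∈ Finset.Ioi i, (qI q (1 + j.val) - qI q (1 + i.val)) =
      (q : ℂ) ^ ((n + 1).choose 3) * ∏ m ∈ Finset.range n, qFac q m
  | 0 => by simp [Nat.choose]
  | n + 1 => by
    have hstep : ∀ (i : Fin n) (j : Fin n), qI q (1 + j.succ.val) - qI q (1 + i.succ.val) =
        (q : ℂ) * (qI q (1 + j.val) - qI q (1 + i.val)) := fun i j => by
      have a := qI_add q 1 (1 + j.val)
      have b := qI_add q 1 (1 + i.val)
      rw [pow_one] at a b
      rw [Fin.val_succ, Fin.val_succ, show 1 + (j.val + 1) = 1 + (1 + j.val) by omega,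
        show 1 + (i.val + 1) = 1 + (1 + i.val) by omega, a, b]
      ring
    have hzero : ∏ j ∈ Finset.Ioi (0 : Fin (n + 1)), (qI q (1 + j.val) - qI q (1 + (0 : Fin (n + 1)).val)) =
        (q : ℂ) ^ n * qFac q n := by
      rw [Fin.prod_Ioi_zero, qFac, ← Fin.prod_univ_eq_prod_range,
        show (q : ℂ) ^ n = ∏ _j : Fin n, (q : ℂ) by simp, ← Finset.prod_mul_distrib]
      refine Finset.prod_congr rfl fun j _ => ?_
      rw [Fin.val_succ, Fin.val_zero, show 1 + (j.val + 1) = 1 + (j.val + 1) by rfl, qI_add]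
      ring
    rw [Fin.prod_univ_succ, hzero]
    have hrest : ∏ i : Fin n, ∏ j ∈ Finset.Ioi i.succ,
        (qI q (1 + j.val) - qI q (1 + i.succ.val)) =
        (q : ℂ) ^ (n.choose 2) * ∏ i : Fin n, ∏ j ∈ Finset.Ioi i, (qI q (1 + j.val) - qI q (1 + i.val)) := by
      have hc : n.choose 2 = ∑ i : Fin n, (Finset.Ioi i).card := by
        simp only [Fin.card_Ioi]
        rw [Nat.choose_two_right, ← Finset.sum_range_id, ← Finset.sum_range_reflect, Finset.sum_range]
      rw [hc, ← Finset.prod_pow_eq_pow_sum, ← Finset.prod_mul_distrib]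
      refine Finset.prod_congr rfl fun i _ => ?_
      rw [Fin.prod_Ioi_succ, ← Finset.prod_const, ← Finset.prod_mul_distrib]
      exact Finset.prod_congr rfl fun j _ => hstep i j
    rw [hrest, prod_gaps q n, Finset.prod_range_succ, Nat.choose_succ_succ' (n + 1) 2, pow_add,
      Nat.choose_succ_succ' n 1, Nat.choose_one_right, pow_add]
    ring

/-- The degree of the Steinberg character of `GL_n(q)`. -/
theorem steinberg_degree {F : Type*} [Field F] [Fintype F] {q : ℕ} (hq : Fintype.card F = q) (n : ℕ) :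
    Cfsg.unipotentCharacterGL n F (fun _ => 1) 1 = ((q ^ n.choose 2 : ℕ) : ℂ) := by
  have h := degree_eq hq (fun _ : Fin n => 1) (by simp)
  rw [prod_gaps, Nat.choose_succ_succ' n 2, pow_add] at h
  have hne : ∀ r, qFac q r ≠ 0 := fun r => Finset.prod_ne_zero_iff.2 fun j _ => Nat.cast_ne_zero.2
    (Finset.sum_pos (fun l _ => pow_pos (hq ▸ Fintype.card_pos) l) ⟨0, by simp⟩).ne'
  have hq0 : (q : ℂ) ≠ 0 := Nat.cast_ne_zero.2 (hq ▸ Fintype.card_ne_zero)
  have e : (∏ m ∈ Finset.range n, qFac q m) * qFac q n = ∏ i : Fin n, qFac q (1 + i.val) := by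
    rw [← Finset.prod_range_succ, Fin.prod_univ_eq_prod_range (fun i => qFac q (1 + i)),
      Finset.prod_range_succ' (fun m => qFac q m)]
    simp [qFac, add_comm]
  rw [← e] at h
  push_cast
  refine mul_right_cancel₀ (b := (q : ℂ) ^ n.choose 3 * ((∏ m ∈ Finset.range n, qFac q m) * qFac q n))
    (mul_ne_zero (pow_ne_zero (n.choose 3) hq0)
      (mul_ne_zero (Finset.prod_ne_zero_iff.2 fun m _ => hne m) (hne n))) ?_
  rw [← mul_assoc, h]
  ring

end Cfsg.Agent.GLUnipotent
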