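import Cfsg.Agent.Lib.SteinbergPolar.Moebius

/-!
The Moebius number of the lattice of subspaces stable under a semisimple linear map of a finite space.
-/

set_option autoImplicit false
set_option linter.unusedSectionVars false
set_option linter.style.haveILetI false

namespace Cfsg.Agent.GLUnipotent

open Polynomial Cfsg.Agent.StPolar
open UniqueFactorizationMonoid (normalizedFactors)

variable {F V : Type*} [Field F] [AddCommGroup V] [Module F V] [Finite V] {g : V →ₗ[F] V}

/-- The restriction to a stable subspace. -/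
noncomputable def res {T : Submodule F V} (hT : Stb g T) : Module.End F T := g.restrict hT

theorem res_apply {T : Submodule F V} (hT : Stb g T) (x : T) : (res hT x : V) = g x := rfl

theorem aeval_res {T : Submodule F V} (hT : Stb g T) (p : F[X]) (x : T) :
    (aeval (res hT) p x : V) = aeval g p (x : V) := by
  induction p using Polynomial.induction_on' with
  | add p q hp hq => simp [map_add, hp, hq]
  | monomial i c =>
    have : ∀ i, ((res hT ^ i) x : V) = (g ^ i) (x : V) := fun i => by
      induction i with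
      | zero => rfl
      | succ i ih =>
        rw [pow_succ', pow_succ', Module.End.mul_apply, Module.End.mul_apply, res_apply, ih]
    simp [aeval_monomial, Module.algebraMap_end_apply, this]

/-- A minimal non-zero stable subspace. -/
def Simp (g : V →ₗ[F] V) (W : Submodule F V) : Prop :=
  Stb g W ∧ W ≠ ⊥ ∧ ∀ Y, Stb g Y → Y ≤ W → Y = ⊥ ∨ Y = W

theorem exists_simp {T : Submodule F V} (hT : Stb g T) (hT0 : T ≠ ⊥) : ∃ W ≤ T, Simp g W := by
  induction T using (wf_lt (F := F) (V := V)).induction with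
  | _ T ih =>
    by_cases h : ∀ Y, Stb g Y → Y ≤ T → Y = ⊥ ∨ Y = T
    · exact ⟨T, le_rfl, hT, hT0, h⟩
    · push Not at h
      obtain ⟨Y, hY, hYT, hY0, hYne⟩ := h
      obtain ⟨W, hW, hWs⟩ := ih Y (lt_of_le_of_ne hYT hYne) hY hY0
      exact ⟨W, hW.trans hYT, hWs⟩

theorem stb_ker (p : F[X]) : Stb g (LinearMap.ker (aeval g p)) := fun x hx => by
  rw [LinearMap.mem_ker] at hx ⊢
  have : aeval g p * g = g * aeval g p := by
    have h1 : aeval g (p * X) = aeval g (X * p) := by rw [mul_comm]
    rwa [map_mul, map_mul, aeval_X] at h1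
  rw [← Module.End.mul_apply, this, Module.End.mul_apply, hx, map_zero]

theorem stb_map (p : F[X]) {T : Submodule F V} (hT : Stb g T) {x : V} (hx : x ∈ T) : aeval g p x ∈ T := by
  induction p using Polynomial.induction_on' with
  | add p q hp hq => rw [map_add, LinearMap.add_apply]; exact T.add_mem hp hq
  | monomial i c =>
    have : ∀ i, (g ^ i) x ∈ T := fun i => by
      induction i with
      | zero => exact hx
      | succ i ih => rw [pow_succ', Module.End.mul_apply]; exact hT _ ih
    rw [aeval_monomial, Module.End.mul_apply, Module.algebraMap_end_apply]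
    exact T.smul_mem c (this i)

/-- Evaluation at a vector. -/
noncomputable def evalAt (g : V →ₗ[F] V) (w : V) : F[X] →ₗ[F] V :=
  (LinearMap.applyₗ w).comp (aeval g).toLinearMap

theorem evalAt_apply (g : V →ₗ[F] V) (w : V) (p : F[X]) : evalAt g w p = aeval g p w := rfl

theorem evalAt_X_mul (g : V →ₗ[F] V) (w : V) (p : F[X]) : evalAt g w (X * p) = g (evalAt g w p) := by
  rw [evalAt_apply, map_mul, aeval_X]
  rfl

theorem Simp.range_evalAt {W : Submodule F V} (hW : Simp g W) {w : V} (hw : w ∈ W) (hw0 : w ≠ 0) :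
    LinearMap.range (evalAt g w) = W := by
  have hs : Stb g (LinearMap.range (evalAt g w)) := by
    rintro _ ⟨p, rfl⟩
    exact ⟨X * p, evalAt_X_mul g w p⟩
  refine (hW.2.2 _ hs (by rintro _ ⟨p, rfl⟩; exact stb_map p hW.1 hw)).resolve_left fun e => hw0 ?_
  have : evalAt g w 1 ∈ LinearMap.range (evalAt g w) := ⟨1, rfl⟩
  rw [e, Submodule.mem_bot, evalAt_apply, map_one] at this
  exact this

/-- The polynomial of a minimal stable subspace. -/
noncomputable def spoly {W : Submodule F V} (hW : Stb g W) : F[X] := minpoly F (res hW)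

variable {W : Submodule F V}

theorem spoly_monic (hW : Stb g W) : (spoly hW).Monic := by
  haveI : Module.Finite F V := Module.Finite.of_finite
  exact minpoly.monic (Algebra.IsIntegral.isIntegral _)

theorem spoly_kill (hW : Stb g W) {x : V} (hx : x ∈ W) : aeval g (spoly hW) x = 0 := by
  have := aeval_res hW (spoly hW) ⟨x, hx⟩
  rw [spoly, minpoly.aeval] at this
  exact this.symm

theorem Simp.irreducible (hW : Simp g W) : Irreducible (spoly hW.1) := by
  haveI : Module.Finite F V := Module.Finite.of_finite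
  haveI : Nontrivial W := Submodule.nontrivial_iff_ne_bot.2 hW.2.1
  refine (Polynomial.irreducible_of_monic (spoly_monic hW.1) (minpoly.ne_one _ _)).2 fun a b ha hb hab => ?_
  by_contra hc
  push Not at hc
  have hmin : ∀ c : F[X], c.Monic → c.natDegree < (spoly hW.1).natDegree → ∃ x ∈ W, aeval g c x ≠ 0 := by
    intro c hc1 hlt
    by_contra hc2
    push Not at hc2
    have hz : aeval (res hW.1) c = 0 := LinearMap.ext fun x => Subtype.ext (by
      rw [aeval_res, hc2 x.1 x.2]; rfl)
    have := minpoly.natDegree_le (A := F) (res hW.1)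
    have h2 := Polynomial.natDegree_le_of_dvd (minpoly.dvd F (res hW.1) hz) hc1.ne_zero
    rw [spoly] at hlt
    omega
  have hsum : (spoly hW.1).natDegree = a.natDegree + b.natDegree := by rw [← hab, ha.natDegree_mul hb]
  have ha0 : 0 < a.natDegree := Nat.pos_of_ne_zero fun e => hc.1 (ha.natDegree_eq_zero.1 e)
  have hb0 : 0 < b.natDegree := Nat.pos_of_ne_zero fun e => hc.2 (hb.natDegree_eq_zero.1 e)
  obtain ⟨x, hx, hxb⟩ := hmin b hb (by omega)
  obtain ⟨y, hy, hya⟩ := hmin a ha (by omega)
  have hbot : W ⊓ LinearMap.ker (aeval g a) ≠ ⊥ := fun e => hxb (by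
    have : aeval g b x ∈ W ⊓ LinearMap.ker (aeval g a) := ⟨stb_map b hW.1 hx, by
      rw [SetLike.mem_coe, LinearMap.mem_ker, ← Module.End.mul_apply, ← map_mul, hab, spoly_kill hW.1 hx]⟩
    rwa [e, Submodule.mem_bot] at this)
  have htop := (hW.2.2 _ (hW.1.inf (stb_ker a)) inf_le_left).resolve_left hbot
  exact hya (LinearMap.mem_ker.1 ((htop.symm ▸ hy : y ∈ W ⊓ LinearMap.ker (aeval g a))).2)

theorem Simp.ker_evalAt (hW : Simp g W) {w : V} (hw : w ∈ W) (hw0 : w ≠ 0) {p : F[X]}
    (hp : evalAt g w p = 0) : spoly hW.1 ∣ p := by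
  by_contra hdvd
  obtain ⟨a, b, hab⟩ := (hW.irreducible.coprime_iff_not_dvd.2 hdvd : IsCoprime (spoly hW.1) p)
  have := congrArg (fun r => evalAt g w r) hab
  simp only [map_add, evalAt_apply, map_mul, Module.End.mul_apply, map_one, Module.End.one_apply,
    spoly_kill hW.1 hw, map_zero, zero_add] at this
  rw [← evalAt_apply g w p, hp, map_zero] at this
  exact hw0 this.symm

theorem Simp.finrank_eq (hW : Simp g W) : Module.finrank F W = (spoly hW.1).natDegree := by
  haveI : Module.Finite F V := Module.Finite.of_finite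
  obtain ⟨w, hw, hw0⟩ := Submodule.exists_mem_ne_zero_of_ne_bot hW.2.1
  set d := (spoly hW.1).natDegree with hd
  let L : Polynomial.degreeLT F d →ₗ[F] W :=
    ((evalAt g w).comp (Polynomial.degreeLT F d).subtype).codRestrict W fun p => stb_map _ hW.1 hw
  have hbij : Function.Bijective L := by
    constructor
    · rw [← LinearMap.ker_eq_bot, LinearMap.ker_eq_bot']
      intro p hp
      have hdvd := hW.ker_evalAt hw hw0 (congrArg Subtype.val hp)
      refine Subtype.ext (Polynomial.eq_zero_of_dvd_of_degree_lt hdvd ?_)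
      rw [Polynomial.degree_eq_natDegree (spoly_monic hW.1).ne_zero]
      exact Polynomial.mem_degreeLT.1 p.2
    · intro y
      obtain ⟨p, hp⟩ : (y : V) ∈ LinearMap.range (evalAt g w) := by rw [hW.range_evalAt hw hw0]; exact y.2
      refine ⟨⟨p %ₘ spoly hW.1, Polynomial.mem_degreeLT.2 ?_⟩, Subtype.ext ?_⟩
      · rw [hd, ← Polynomial.degree_eq_natDegree (spoly_monic hW.1).ne_zero]
        exact Polynomial.degree_modByMonic_lt _ (spoly_monic hW.1)
      · show evalAt g w (p %ₘ spoly hW.1) = y
        have e : p %ₘ spoly hW.1 = p - (p /ₘ spoly hW.1) * spoly hW.1 := by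
          rw [eq_sub_iff_add_eq, mul_comm]
          exact Polynomial.modByMonic_add_div p _
        rw [e, map_sub, hp, evalAt_apply, map_mul, Module.End.mul_apply, spoly_kill hW.1 hw, map_zero, sub_zero]
  rw [← (LinearEquiv.ofBijective L hbij).finrank_eq, (Polynomial.degreeLTEquiv F d).finrank_eq,
    Module.finrank_fin_fun]

theorem Simp.charpoly_eq (hW : Simp g W) : (res hW.1).charpoly = spoly hW.1 := by
  haveI : Module.Finite F V := Module.Finite.of_finite
  refine (Polynomial.eq_of_monic_of_dvd_of_natDegree_le (spoly_monic hW.1) (LinearMap.charpoly_monic _)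
    (LinearMap.minpoly_dvd_charpoly _) ?_)
  rw [LinearMap.charpoly_natDegree, hW.finrank_eq]

/-- Maps from a stable subspace commuting with `g`. -/
abbrev HomG (g : V →ₗ[F] V) (T W : Submodule F V) : Type _ :=
  {θ : T →ₗ[F] V // (∀ x : T, θ x ∈ W) ∧ ∀ x y : T, (y : V) = g x → θ y = g (θ x)}

theorem homG_aeval {T : Submodule F V} (hT : Stb g T) (θ : HomG g T W) (p : F[X]) (x : T) :
    θ.1 ⟨aeval g p x, stb_map p hT x.2⟩ = aeval g p (θ.1 x) := by
  induction p using Polynomial.induction_on' with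
  | add p q hp hq =>
    rw [show (⟨aeval g (p + q) x, _⟩ : T) = ⟨aeval g p x, stb_map p hT x.2⟩ + ⟨aeval g q x, stb_map q hT x.2⟩ from
      Subtype.ext (by simp), map_add, hp, hq]
    simp
  | monomial i c =>
    have : ∀ i, θ.1 ⟨(g ^ i) x.1, by simpa [aeval_monomial] using stb_map (g := g) (X ^ i) hT x.2⟩ =
        (g ^ i) (θ.1 x) := fun i => by
      induction i with
      | zero => rfl
      | succ i ih =>
        rw [θ.2.2 ⟨(g ^ i) x.1, by simpa using stb_map (g := g) (X ^ i) hT x.2⟩ _ (by
          show (g ^ (i + 1)) x.1 = g ((g ^ i) x.1)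
          rw [pow_succ', Module.End.mul_apply]), ih, pow_succ', Module.End.mul_apply]
    rw [show (⟨aeval g (monomial i c) x, _⟩ : T) =
      c • ⟨(g ^ i) x.1, by simpa using stb_map (g := g) (X ^ i) hT x.2⟩ from
      Subtype.ext (by simp [aeval_monomial, Module.algebraMap_end_apply]), map_smul, this]
    simp [aeval_monomial, Module.algebraMap_end_apply]

open scoped Classical in
theorem Simp.card_homG {W' : Submodule F V} (hW : Simp g W) (hW' : Simp g W') :
    Nat.card (HomG g W' W) = if spoly hW'.1 = spoly hW.1 then Nat.card W else 1 := by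
  obtain ⟨w, hw, hw0⟩ := Submodule.exists_mem_ne_zero_of_ne_bot hW'.2.1
  have hdet : ∀ θ θ' : HomG g W' W, θ.1 ⟨w, hw⟩ = θ'.1 ⟨w, hw⟩ → θ = θ' := fun θ θ' h => by
    refine Subtype.ext (LinearMap.ext fun x => ?_)
    obtain ⟨p, hp⟩ : (x : V) ∈ LinearMap.range (evalAt g w) := by rw [hW'.range_evalAt hw hw0]; exact x.2
    rw [show x = ⟨aeval g p w, stb_map p hW'.1 hw⟩ from Subtype.ext hp.symm, homG_aeval hW'.1 θ p ⟨w, hw⟩,
      homG_aeval hW'.1 θ' p ⟨w, hw⟩, h]
  split_ifs with h
  · refine Nat.card_congr (Equiv.ofBijective (fun θ => (⟨θ.1 ⟨w, hw⟩, θ.2.1 _⟩ : W))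
      ⟨fun θ θ' e => hdet θ θ' (congrArg Subtype.val e), fun u => ?_⟩)
    let Lw : F[X] →ₗ[F] W' := (evalAt g w).codRestrict W' fun p => stb_map p hW'.1 hw
    have hLw : Function.Surjective Lw := fun x => by
      obtain ⟨p, hp⟩ : (x : V) ∈ LinearMap.range (evalAt g w) := by rw [hW'.range_evalAt hw hw0]; exact x.2
      exact ⟨p, Subtype.ext hp⟩
    have hle : LinearMap.ker Lw ≤ LinearMap.ker (evalAt g u.1) := fun p hp => by
      obtain ⟨c, hc⟩ := hW'.ker_evalAt hw hw0 (congrArg Subtype.val (LinearMap.mem_ker.1 hp))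
      rw [LinearMap.mem_ker, hc, mul_comm, evalAt_apply, map_mul, Module.End.mul_apply, h, spoly_kill hW.1 u.2,
        map_zero]
    let θ : W' →ₗ[F] V := ((LinearMap.ker Lw).liftQ (evalAt g u.1) hle).comp
      (Lw.quotKerEquivOfSurjective hLw).symm.toLinearMap
    have hθ : ∀ p, θ (Lw p) = evalAt g u.1 p := fun p => by
      show (LinearMap.ker Lw).liftQ _ hle ((Lw.quotKerEquivOfSurjective hLw).symm (Lw p)) = _
      rw [← LinearMap.quotKerEquivOfSurjective_apply_mk Lw hLw p, LinearEquiv.symm_apply_apply]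
      rfl
    refine ⟨⟨θ, fun x => ?_, fun x y hy => ?_⟩, Subtype.ext ?_⟩
    · obtain ⟨p, rfl⟩ := hLw x
      rw [hθ]
      exact stb_map p hW.1 u.2
    · obtain ⟨p, rfl⟩ := hLw x
      rw [show y = Lw (X * p) from Subtype.ext (hy.trans (evalAt_X_mul g w p).symm), hθ, hθ, evalAt_X_mul]
    · show θ ⟨w, hw⟩ = u.1
      rw [show (⟨w, hw⟩ : W') = Lw 1 from Subtype.ext (by show w = evalAt g w 1; rw [evalAt_apply, map_one]; rfl), hθ, evalAt_apply, map_one]
      rfl
  · have hall : ∀ θ : HomG g W' W, θ.1 ⟨w, hw⟩ = 0 := fun θ => by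
      have h1 : aeval g (spoly hW'.1) (θ.1 ⟨w, hw⟩) = 0 := by
        rw [← homG_aeval hW'.1 θ (spoly hW'.1) ⟨w, hw⟩, show (⟨aeval g (spoly hW'.1) w, _⟩ : W') = 0 from
          Subtype.ext (spoly_kill hW'.1 hw), map_zero]
      obtain ⟨a, b, hab⟩ := hW'.irreducible.coprime_iff_not_dvd.2 fun hd =>
        h (Polynomial.eq_of_monic_of_associated (spoly_monic hW'.1) (spoly_monic hW.1)
          (hW'.irreducible.associated_of_dvd hW.irreducible hd))
      have := congrArg (fun r => aeval g r (θ.1 ⟨w, hw⟩)) hab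
      simp only [map_add, LinearMap.add_apply, map_mul, Module.End.mul_apply, map_one, Module.End.one_apply, h1,
        spoly_kill hW.1 (θ.2.1 _), map_zero, add_zero] at this
      exact this.symm
    haveI : Subsingleton (HomG g W' W) := ⟨fun θ θ' => hdet θ θ' ((hall θ).trans (hall θ').symm)⟩
    haveI : Nonempty (HomG g W' W) := ⟨⟨0, fun _ => W.zero_mem, fun _ _ _ => by simp⟩⟩
    exact Nat.card_eq_one_iff_unique.2 ⟨inferInstance, inferInstance⟩

section Split

variable {T X : Submodule F V} (hWT : W ≤ T) (hXT : X ≤ T) (hd : W ⊓ X = ⊥) (hs : W ⊔ X = T)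

/-- The sum map of a decomposition. -/
noncomputable def splitEquiv : (W × X) ≃ₗ[F] T :=
  LinearEquiv.ofBijective ((Submodule.inclusion hWT).coprod (Submodule.inclusion hXT))
    ⟨by
      rw [← LinearMap.ker_eq_bot, LinearMap.ker_eq_bot']
      rintro ⟨a, b⟩ h
      have h' : (a : V) + b = 0 := congrArg Subtype.val h
      have ha : (a : V) ∈ W ⊓ X := ⟨a.2, by rw [eq_neg_of_add_eq_zero_left h']; exact X.neg_mem b.2⟩
      rw [hd, Submodule.mem_bot] at ha
      rw [ha, zero_add] at h'
      exact Prod.ext (Subtype.ext ha) (Subtype.ext h'),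
    fun y => by
      obtain ⟨a, ha, b, hb, e⟩ := Submodule.mem_sup.1 (hs.symm ▸ y.2 : (y : V) ∈ W ⊔ X)
      exact ⟨(⟨a, ha⟩, ⟨b, hb⟩), Subtype.ext e⟩⟩

theorem splitEquiv_apply (p : W × X) : (splitEquiv hWT hXT hd hs p : V) = p.1 + p.2 := rfl

include hWT hXT hd hs in
theorem charpoly_split (hW : Stb g W) (hX : Stb g X) (hT : Stb g T) :
    (res hT).charpoly = (res hW).charpoly * (res hX).charpoly := by
  haveI : Module.Finite F V := Module.Finite.of_finite
  rw [← LinearMap.charpoly_prodMap, ← LinearEquiv.charpoly_conj (splitEquiv hWT hXT hd hs)]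
  congr 1
  refine LinearMap.ext fun x => Subtype.ext ?_
  rw [LinearEquiv.conj_apply_apply, splitEquiv_apply, LinearMap.prodMap_apply, res_apply, res_apply, res_apply,
    ← map_add, ← splitEquiv_apply hWT hXT hd hs, LinearEquiv.apply_symm_apply]

include hWT hXT hd hs in
theorem card_homG_split (hW : Stb g W) (hX : Stb g X) (U : Submodule F V) :
    Nat.card (HomG g T U) = Nat.card (HomG g W U) * Nat.card (HomG g X U) := by
  set e := splitEquiv hWT hXT hd hs
  rw [← Nat.card_prod]
  refine Nat.card_congr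
    { toFun := fun θ => (⟨θ.1.comp (Submodule.inclusion hWT), fun _ => θ.2.1 _, fun x y h => θ.2.2 _ _ h⟩,
        ⟨θ.1.comp (Submodule.inclusion hXT), fun _ => θ.2.1 _, fun x y h => θ.2.2 _ _ h⟩)
      invFun := fun p => ⟨(p.1.1.coprod p.2.1).comp e.symm.toLinearMap,
        fun x => U.add_mem (p.1.2.1 _) (p.2.2.1 _), fun x y h => by
          obtain ⟨⟨a, b⟩, rfl⟩ := e.surjective x
          have hy : y = e (⟨g a, hW _ a.2⟩, ⟨g b, hX _ b.2⟩) := Subtype.ext (by
            rw [h, splitEquiv_apply, splitEquiv_apply, map_add])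
          subst hy
          simp only [LinearMap.comp_apply, LinearEquiv.coe_coe, LinearEquiv.symm_apply_apply, LinearMap.coprod_apply,
            map_add]
          rw [p.1.2.2 a ⟨g a, hW _ a.2⟩ rfl, p.2.2.2 b ⟨g b, hX _ b.2⟩ rfl]⟩
      left_inv := fun θ => Subtype.ext (LinearMap.ext fun x => by
        obtain ⟨⟨a, b⟩, rfl⟩ := e.surjective x
        simp only [LinearMap.comp_apply, LinearEquiv.coe_coe, LinearEquiv.symm_apply_apply, LinearMap.coprod_apply]
        rw [← map_add]
        rfl)
      right_inv := fun p => by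
        refine Prod.ext (Subtype.ext (LinearMap.ext fun a => ?_)) (Subtype.ext (LinearMap.ext fun b => ?_))
        · have : Submodule.inclusion hWT a = e (a, 0) := Subtype.ext (by simp [e, splitEquiv_apply])
          simp [this]
        · have : Submodule.inclusion hXT b = e (0, b) := Subtype.ext (by simp [e, splitEquiv_apply])
          simp [this] }

end Split

variable [Fintype F] [DecidableEq F] [Fintype (Submodule F V)]

/-- The predicted Moebius number. -/
noncomputable def muVal (q : ℕ) (M : Multiset F[X]) : ℤ :=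
  ∏ f ∈ M.toFinset, (-1) ^ M.count f * (q : ℤ) ^ (f.natDegree * M.count f * (M.count f - 1) / 2)

theorem muVal_cons (q : ℕ) (f : F[X]) (M : Multiset F[X]) :
    muVal q (f ::ₘ M) = -(q : ℤ) ^ (f.natDegree * M.count f) * muVal q M := by
  classical
  unfold muVal
  have hs : M.toFinset ⊆ insert f M.toFinset := Finset.subset_insert _ _
  rw [Multiset.toFinset_cons, ← Finset.mul_prod_erase _ _ (Finset.mem_insert_self f _)]
  conv_rhs => rw [Finset.prod_subset hs (fun x _ hx => by
    rw [Multiset.count_eq_zero.2 fun h => hx (Multiset.mem_toFinset.2 h)]; simp)]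
  rw [← Finset.mul_prod_erase _ _ (Finset.mem_insert_self f M.toFinset), Multiset.count_cons_self]
  rw [Finset.prod_congr rfl fun x hx => by rw [Multiset.count_cons_of_ne (Finset.ne_of_mem_erase hx)]]
  have he : f.natDegree * (M.count f + 1) * (M.count f + 1 - 1) / 2 =
      f.natDegree * M.count f + f.natDegree * M.count f * (M.count f - 1) / 2 := by
    rcases M.count f with _ | k
    · simp
    · obtain ⟨r, hr⟩ := Nat.even_mul_succ_self k
      rw [show f.natDegree * (k + 1 + 1) * (k + 1 + 1 - 1) = 2 * (f.natDegree * (k + 1) + f.natDegree * r) by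
          simp only [Nat.add_sub_cancel]; linear_combination f.natDegree * hr,
        show f.natDegree * (k + 1) * (k + 1 - 1) = 2 * (f.natDegree * r) by
          simp only [Nat.add_sub_cancel]; linear_combination f.natDegree * hr,
        Nat.mul_div_cancel_left _ (by norm_num), Nat.mul_div_cancel_left _ (by norm_num)]
  rw [he, pow_succ, pow_add]
  ring

theorem mu_semisimple (hg : Module.End.IsSemisimple g) {q : ℕ} (hq : Fintype.card F = q) :
    ∀ (T : Submodule F V) (hT : Stb g T), mu g ⊥ T = muVal q (normalizedFactors (res hT).charpoly) ∧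
      ∀ W : Submodule F V, ∀ hW : Simp g W, Nat.card (HomG g T W) =
        q ^ ((spoly hW.1).natDegree * (normalizedFactors (res hT).charpoly).count (spoly hW.1)) := by
  classical
  haveI : Module.Finite F V := Module.Finite.of_finite
  intro T
  induction T using (wf_lt (F := F) (V := V)).induction with
  | _ T ih =>
  intro hT
  by_cases hT0 : T = ⊥
  · subst hT0
    haveI : Subsingleton (⊥ : Submodule F V) := Submodule.subsingleton_iff_eq_bot.2 rfl
    have hch : (res hT).charpoly = 1 := by
      refine (LinearMap.charpoly_monic _).natDegree_eq_zero.1 ?_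
      rw [LinearMap.charpoly_natDegree, finrank_bot]
    have hnf : normalizedFactors (res hT).charpoly = 0 := by rw [hch, UniqueFactorizationMonoid.normalizedFactors_one]
    refine ⟨by rw [mu_self, hnf]; rfl, fun W hW => ?_⟩
    rw [hnf, Multiset.count_zero, mul_zero, pow_zero]
    refine Nat.card_eq_one_iff_unique.2 ⟨⟨fun a b => Subtype.ext (LinearMap.ext fun x => ?_)⟩,
      ⟨⟨0, fun _ => W.zero_mem, fun _ _ _ => by simp⟩⟩⟩
    rw [Subsingleton.elim x 0, map_zero, map_zero]
  obtain ⟨W, hWT, hW⟩ := exists_simp hT hT0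
  obtain ⟨Q, hQ, hQc⟩ := Module.End.isSemisimple_iff.1 hg W (fun x hx => hW.1 x hx)
  set X₀ := Q ⊓ T with hX₀
  have hX₀s : Stb g X₀ := Stb.inf (fun x hx => hQ hx) hT
  have hd : W ⊓ X₀ = ⊥ := le_bot_iff.1 ((inf_le_inf_left W inf_le_left).trans hQc.inf_eq_bot.le)
  have hs : W ⊔ X₀ = T := by
    rw [hX₀, ← sup_inf_assoc_of_le Q hWT, hQc.sup_eq_top, top_inf_eq]
  have hlt : X₀ < T := lt_of_le_of_ne inf_le_right fun e => hW.2.1 (by
    rw [← hd, e, inf_eq_left.2 hWT])
  obtain ⟨hμ, hhom⟩ := ih X₀ hlt hX₀s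
  have hch : normalizedFactors (res hT).charpoly = spoly hW.1 ::ₘ normalizedFactors (res hX₀s).charpoly := by
    rw [charpoly_split hWT inf_le_right hd hs hW.1 hX₀s hT, hW.charpoly_eq,
      UniqueFactorizationMonoid.normalizedFactors_mul hW.irreducible.ne_zero (LinearMap.charpoly_monic _).ne_zero,
      UniqueFactorizationMonoid.normalizedFactors_irreducible hW.irreducible,
      (spoly_monic hW.1).normalize_eq_self, Multiset.singleton_add]
  have hcardW : ∀ {U : Submodule F V} (hU : Simp g U), Nat.card U = q ^ (spoly hU.1).natDegree := fun {U} hU => by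
    rw [Module.natCard_eq_pow_finrank (K := F), Nat.card_eq_fintype_card, hq, hU.finrank_eq]
  refine ⟨?_, fun U hU => ?_⟩
  · -- the complements
    have hmuW : mu g ⊥ W = -1 := by
      rw [mu_of_ne hW.2.1, Finset.sum_eq_single ⊥ (fun Y hY hne => ?_) (fun h => ?_), mu_self]
      · simp only [Finset.mem_filter] at hY
        exact absurd ((hW.2.2 Y hY.2.1 hY.2.2.2.le).resolve_right hY.2.2.2.ne) hne
      · exact absurd (Finset.mem_filter.2 ⟨Finset.mem_univ _, stb_bot, le_rfl, bot_lt_iff_ne_bot.2 hW.2.1⟩) h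
    rw [mu_comp hW.1 hT, inf_eq_right.2 hWT, hmuW, hch, muVal_cons]
    set S := Finset.univ.filter (fun X => Stb g X ∧ X ≤ T ∧ X ⊓ W = ⊥ ∧ X ⊔ W = T) with hS
    have hterm : ∀ X ∈ S, mu g ⊥ X = mu g ⊥ X₀ := by
      intro X hX
      simp only [hS, Finset.mem_filter, Finset.mem_univ, true_and] at hX
      obtain ⟨hXs, hXT, hXW, hXsup⟩ := hX
      have key : ∀ {A B Y : Submodule F V}, B ⊔ W = T → A ≤ T → A ⊓ W = ⊥ → Y ≤ A →
          ((Y ⊔ W) ⊓ B ⊔ W) ⊓ A = Y := by
        intro A B Y hB hA hAW hY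
        rw [inf_sup_assoc_of_le B (le_sup_right : W ≤ Y ⊔ W), hB, inf_eq_left.2 (sup_le (hY.trans hA) hWT),
          sup_inf_assoc_of_le W hY, inf_comm W A, hAW, sup_bot_eq]
      have htop : (X ⊔ W) ⊓ X₀ = X₀ := by rw [hXsup, inf_eq_right.2 inf_le_right]
      have hX0W : X₀ ⊓ W = ⊥ := by rw [inf_comm]; exact hd
      have hX0sup : X₀ ⊔ W = T := by rw [sup_comm]; exact hs
      refine (mu_congr (fun Y => (Y ⊔ W) ⊓ X₀) (fun Y => (Y ⊔ W) ⊓ X) hXs bot_le
        (by rw [bot_sup_eq]; exact hd) stb_bot (T' := X₀)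
        (fun Y hY _ h2 => ⟨(hY.sup hW.1).inf hX₀s, bot_le, inf_le_right, key hX0sup hXT hXW h2⟩)
        (fun Y hY _ h2 => ⟨(hY.sup hW.1).inf hXs, bot_le, inf_le_right, key hXsup inf_le_right hX0W h2⟩)
        (fun _ _ h => inf_le_inf_right _ (sup_le_sup_right h _))
        (fun _ _ h => inf_le_inf_right _ (sup_le_sup_right h _))).trans ?_
      rw [htop]
    have hcount : S.card = Nat.card (HomG g X₀ W) := by
      rw [← Nat.card_eq_finsetCard]
      refine (Nat.card_congr (Equiv.ofBijective (fun θ : HomG g X₀ W => (⟨LinearMap.range (X₀.subtype + θ.1), ?_⟩ : S))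
        ⟨?_, ?_⟩)).symm
      · simp only [hS, Finset.mem_filter, Finset.mem_univ, true_and]
        refine ⟨?_, ?_, ?_, ?_⟩
        · rintro _ ⟨x, rfl⟩
          refine ⟨⟨g x, hX₀s _ x.2⟩, ?_⟩
          simp [θ.2.2 x ⟨g x, hX₀s _ x.2⟩ rfl]
        · rintro _ ⟨x, rfl⟩
          exact T.add_mem (hlt.le x.2) (hWT (θ.2.1 x))
        · rw [eq_bot_iff]
          rintro _ ⟨⟨x, rfl⟩, hw⟩
          have hx : (x : V) ∈ W := by
            have := W.sub_mem hw (θ.2.1 x)
            simpa using this
          have : (x : V) ∈ W ⊓ X₀ := ⟨hx, x.2⟩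
          rw [hd, Submodule.mem_bot] at this
          rw [show x = 0 from Subtype.ext this, map_zero]
          exact Submodule.zero_mem _
        · refine le_antisymm (sup_le ?_ hWT) (hs ▸ sup_le le_sup_right fun x hx => ?_)
          · rintro _ ⟨x, rfl⟩
            exact T.add_mem (hlt.le x.2) (hWT (θ.2.1 x))
          · rw [show x = (X₀.subtype + θ.1) ⟨x, hx⟩ + -(θ.1 ⟨x, hx⟩) by simp]
            exact Submodule.add_mem_sup ⟨_, rfl⟩ (W.neg_mem (θ.2.1 _))
      · intro θ θ' e
        refine Subtype.ext (LinearMap.ext fun x => ?_)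
        obtain ⟨y, hy⟩ : (X₀.subtype + θ.1) x ∈ LinearMap.range (X₀.subtype + θ'.1) := by
          have e' : LinearMap.range (X₀.subtype + θ.1) = LinearMap.range (X₀.subtype + θ'.1) := congrArg Subtype.val e
          rw [← e']; exact ⟨x, rfl⟩
        simp only [LinearMap.add_apply, Submodule.coe_subtype] at hy
        have hm : (x : V) - y ∈ W ⊓ X₀ := ⟨by
          rw [show (x : V) - y = θ'.1 y - θ.1 x by rw [sub_eq_sub_iff_add_eq_add, ← hy]; abel]
          exact W.sub_mem (θ'.2.1 _) (θ.2.1 _), X₀.sub_mem x.2 y.2⟩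
        rw [hd, Submodule.mem_bot, sub_eq_zero] at hm
        rw [Subtype.ext hm.symm] at hy
        exact (add_left_cancel hy).symm
      · rintro ⟨X, hX⟩
        simp only [hS, Finset.mem_filter, Finset.mem_univ, true_and] at hX
        obtain ⟨hXs, hXT, hXW, hXsup⟩ := hX
        set e := splitEquiv hWT hXT (by rw [inf_comm]; exact hXW) (by rw [sup_comm]; exact hXsup)
        let P : X₀ →ₗ[F] W × X := e.symm.toLinearMap.comp (Submodule.inclusion hlt.le)
        have hP : ∀ x : X₀, (x : V) = ((P x).1 : V) + (P x).2 := fun x => by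
          rw [← splitEquiv_apply hWT hXT (by rw [inf_comm]; exact hXW) (by rw [sup_comm]; exact hXsup)]
          exact (congrArg Subtype.val (e.apply_symm_apply (Submodule.inclusion hlt.le x))).symm
        let θ : HomG g X₀ W := ⟨-(W.subtype.comp ((LinearMap.fst F W X).comp P)),
          fun x => W.neg_mem (P x).1.2, fun x y hy => by
          have h1 : ((P y).1 : V) - g (P x).1 = g (P x).2 - (P y).2 := by
            rw [sub_eq_sub_iff_add_eq_add, ← hP y, hy, add_comm, ← map_add, ← hP x]
          have hm : ((P y).1 : V) - g (P x).1 ∈ X ⊓ W :=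
            ⟨by rw [h1]; exact X.sub_mem (hXs _ (P x).2.2) (P y).2.2, W.sub_mem (P y).1.2 (hW.1 _ (P x).1.2)⟩
          rw [hXW, Submodule.mem_bot, sub_eq_zero] at hm
          simp [hm]⟩
        refine ⟨θ, Subtype.ext (le_antisymm ?_ fun x hx => ?_)⟩
        · rintro _ ⟨x, rfl⟩
          have : (X₀.subtype + θ.1) x = (P x).2 := by
            show (x : V) + -((P x).1 : V) = _
            rw [hP x]; abel
          rw [this]
          exact (P x).2.2
        · obtain ⟨w, hw, y, hy, e'⟩ := Submodule.mem_sup.1 (hs.symm ▸ hXT hx : x ∈ W ⊔ X₀)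
          refine ⟨⟨y, hy⟩, ?_⟩
          have hm : ((P ⟨y, hy⟩).1 : V) + w ∈ X ⊓ W := ⟨by
            rw [show ((P ⟨y, hy⟩).1 : V) + w = x - (P ⟨y, hy⟩).2 by
              rw [eq_sub_iff_add_eq, ← e', add_comm _ w, add_assoc, ← hP ⟨y, hy⟩]]
            exact X.sub_mem hx (P ⟨y, hy⟩).2.2, W.add_mem (P ⟨y, hy⟩).1.2 hw⟩
          rw [hXW, Submodule.mem_bot] at hm
          show y + -((P ⟨y, hy⟩).1 : V) = x
          rw [← e', eq_neg_of_add_eq_zero_left hm]
          abel
    rw [Finset.sum_congr rfl hterm, Finset.sum_const, hcount, hhom W hW, hμ, nsmul_eq_mul]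
    push_cast
    ring
  · rw [card_homG_split hWT inf_le_right hd hs hW.1 hX₀s, hU.card_homG hW, hhom U hU, hch]
    by_cases he : spoly hW.1 = spoly hU.1
    · rw [if_pos he, he, Multiset.count_cons_self, hcardW hU, ← pow_add]
      ring_nf
    · rw [if_neg he, one_mul, Multiset.count_cons_of_ne (Ne.symm he)]

end Cfsg.Agent.GLUnipotent
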