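import Cfsg.Agent.Lib.SteinbergPolar.Moebius
import Cfsg.Prelude.Def_LinearParabolics

/-!
The alternating sum of flag characters attached to the one-column partition is the top Moebius number of
the lattice of stable subspaces.
-/

set_option autoImplicit false
set_option linter.unusedSectionVars false
set_option linter.style.haveILetI false

namespace Cfsg.Agent.GLUnipotent.StChains

open Cfsg.Agent.StPolar
open scoped Matrix MatrixGroups

section Perms

variable {n : ℕ}

/-- The permutations occurring in the alternating sum. -/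
def Good (κ : Equiv.Perm (Fin n)) : Prop := ∀ i : Fin n, (κ i).val ≤ 1 + i.val

/-- The composition of a permutation. -/
def part (κ : Equiv.Perm (Fin n)) (i : Fin n) : ℕ := 1 + i.val - (κ i).val

/-- The proper dimensions of the flags of a permutation. -/
def dims (κ : Equiv.Perm (Fin n)) : Finset ℕ :=
  (Finset.univ.filter fun i : Fin n => (κ i).val ≤ i.val ∧ i.val + 1 < n).image fun i => i.val + 1

theorem mem_dims {κ : Equiv.Perm (Fin n)} {k : ℕ} :
    k ∈ dims κ ↔ ∃ i : Fin n, ((κ i).val ≤ i.val ∧ i.val + 1 < n) ∧ i.val + 1 = k := by simp [dims]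

theorem dims_subset (κ : Equiv.Perm (Fin n)) : dims κ ⊆ Finset.Ioo 0 n := fun k hk => by
  obtain ⟨i, ⟨-, h⟩, rfl⟩ := mem_dims.1 hk
  exact Finset.mem_Ioo.2 ⟨Nat.succ_pos _, h⟩

/-- Partial sums of the composition. -/
def psum (κ : Equiv.Perm (Fin n)) (t : ℕ) : ℕ :=
  ∑ k ∈ Finset.univ.filter (fun k : Fin n => k.val < t), part κ k

theorem psum_zero (κ : Equiv.Perm (Fin n)) : psum κ 0 = 0 := by simp [psum]

theorem psum_succ (κ : Equiv.Perm (Fin n)) (i : Fin n) : psum κ (i.val + 1) = psum κ i.val + part κ i := by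
  rw [psum, psum, show Finset.univ.filter (fun k : Fin n => k.val < i.val + 1) =
    insert i (Finset.univ.filter fun k : Fin n => k.val < i.val) by
      ext k; simp [Fin.ext_iff]; omega, Finset.sum_insert (by simp)]
  ring

theorem psum_cut {κ : Equiv.Perm (Fin n)} (hκ : Good κ) {i : Fin n} (hi : (κ i).val ≤ i.val) :
    psum κ (i.val + 1) = i.val + 1 := by
  set S := Finset.univ.filter (fun k : Fin n => k.val < i.val + 1) with hS
  have himg : S.map κ.toEmbedding = S := by
    refine Finset.eq_of_subset_of_card_le (fun x hx => ?_) (by rw [Finset.card_map])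
    obtain ⟨k, hk, rfl⟩ := Finset.mem_map.1 hx
    simp only [hS, Finset.mem_filter, Finset.mem_univ, true_and, Equiv.coe_toEmbedding] at hk ⊢
    rcases Nat.lt_or_ge k.val i.val with h | h
    · have := hκ k; omega
    · rw [Fin.ext (show k.val = i.val by omega)]; omega
  have h1 : ∑ k ∈ S, (κ k).val = ∑ k ∈ S, k.val := by
    conv_rhs => rw [← himg, Finset.sum_map]
    rfl
  have h2 : psum κ (i.val + 1) + ∑ k ∈ S, (κ k).val = ∑ k ∈ S, (1 + k.val) := by
    rw [psum, ← Finset.sum_add_distrib]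
    exact Finset.sum_congr rfl fun k _ => Nat.sub_add_cancel (hκ k)
  rw [Finset.sum_add_distrib, h1, Finset.sum_const, smul_eq_mul, mul_one] at h2
  have hc : S.card = i.val + 1 := by
    rw [show S = Finset.Iic i by
      ext k
      rw [hS]
      simp only [Finset.mem_filter, Finset.mem_univ, true_and, Finset.mem_Iic]
      rw [Fin.le_iff_val_le_val]
      omega, Fin.card_Iic]
  omega

theorem psum_noncut {κ : Equiv.Perm (Fin n)} (hκ : Good κ) {i : Fin n} (hi : ¬ (κ i).val ≤ i.val) :
    psum κ (i.val + 1) = psum κ i.val := by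
  have := hκ i
  rw [psum_succ, part]
  omega

theorem psum_values {κ : Equiv.Perm (Fin n)} (hκ : Good κ) :
    ∀ t, t ≤ n → psum κ t = 0 ∨ ∃ i : Fin n, (κ i).val ≤ i.val ∧ psum κ t = i.val + 1
  | 0, _ => Or.inl (psum_zero κ)
  | t + 1, ht => by
    by_cases hi : (κ ⟨t, ht⟩).val ≤ t
    · exact Or.inr ⟨⟨t, ht⟩, hi, psum_cut hκ (i := ⟨t, ht⟩) hi⟩
    · rw [show psum κ (t + 1) = psum κ t from psum_noncut hκ (i := ⟨t, ht⟩) hi]
      exact psum_values hκ t (Nat.le_of_succ_le ht)

theorem lt_label_iff {κ : Equiv.Perm (Fin n)} (hκ : Good κ) (i j : Fin n) :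
    Cfsg.compLabel (part κ) j < Cfsg.compLabel (part κ) i ↔ ∃ k ∈ dims κ, j.val < k ∧ k ≤ i.val := by
  have e : ∀ t : Fin n, ∑ k ∈ Finset.univ.filter (fun k : Fin n => k ≤ t), part κ k = psum κ (t.val + 1) := fun t =>
    Finset.sum_congr (by
      ext k
      simp only [Finset.mem_filter, Finset.mem_univ, true_and]
      rw [Fin.le_iff_val_le_val]
      omega) fun _ _ => rfl
  simp only [Cfsg.compLabel, e]
  constructor
  · intro h
    obtain ⟨t, ht, ht'⟩ := Finset.exists_mem_notMem_of_card_lt_card h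
    simp only [Finset.mem_filter, Finset.mem_univ, true_and, not_le] at ht ht'
    rcases psum_values hκ (t.val + 1) (Nat.succ_le_of_lt t.isLt) with h0 | ⟨c, hc, hcv⟩
    · omega
    · exact ⟨c.val + 1, mem_dims.2 ⟨c, ⟨hc, by omega⟩, rfl⟩, by omega, by omega⟩
  · rintro ⟨k, hk, hjk, hki⟩
    obtain ⟨c, ⟨hc, -⟩, rfl⟩ := mem_dims.1 hk
    refine Finset.card_lt_card ((Finset.ssubset_iff_of_subset fun t => ?_).2 ⟨c, ?_, ?_⟩)
    · simp only [Finset.mem_filter, Finset.mem_univ, true_and]
      omega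
    · simp only [Finset.mem_filter, Finset.mem_univ, true_and, psum_cut hκ hc]
      omega
    · simp only [Finset.mem_filter, Finset.mem_univ, true_and, psum_cut hκ hc]
      omega

theorem mem_parabolic {F : Type*} [Field F] {κ : Equiv.Perm (Fin n)} (hκ : Good κ) (h : GL (Fin n) F) :
    h ∈ Cfsg.parabolicGL n F (part κ) ↔
      ∀ k ∈ dims κ, ∀ i j : Fin n, j.val < k → k ≤ i.val → (h : Matrix (Fin n) (Fin n) F) i j = 0 := by
  constructor
  · exact fun hh k hk i j h1 h2 => hh ((lt_label_iff hκ i j).2 ⟨k, hk, h1, h2⟩)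
  · intro hh i j hij
    obtain ⟨k, hk, h1, h2⟩ := (lt_label_iff hκ i j).1 hij
    exact hh k hk i j h1 h2

theorem cut_iff {κ : Equiv.Perm (Fin n)} (hκ : Good κ) (i : Fin n) :
    (κ i).val ≤ i.val ↔ (i.val + 1 ∈ dims κ ∨ i.val + 1 = n) := by
  constructor
  · intro h
    by_cases hn : i.val + 1 = n
    · exact Or.inr hn
    · exact Or.inl (mem_dims.2 ⟨i, ⟨h, by omega⟩, rfl⟩)
  · rintro (h | h)
    · obtain ⟨c, ⟨hc, -⟩, hci⟩ := mem_dims.1 h
      rwa [Fin.ext (show i.val = c.val by omega)]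
    · have := (κ i).isLt
      omega

theorem dims_injective {κ κ' : Equiv.Perm (Fin n)} (hκ : Good κ) (hκ' : Good κ') (h : dims κ = dims κ') :
    κ = κ' := by
  have hcut : ∀ i, (κ i).val ≤ i.val ↔ (κ' i).val ≤ i.val := fun i => by rw [cut_iff hκ, cut_iff hκ', h]
  have hps : ∀ t, t ≤ n → psum κ t = psum κ' t := by
    intro t
    induction t with
    | zero => intro _; rw [psum_zero, psum_zero]
    | succ t ih =>
      intro ht
      by_cases hi : (κ ⟨t, ht⟩).val ≤ t
      · rw [show psum κ (t + 1) = t + 1 from psum_cut hκ (i := ⟨t, ht⟩) hi,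
          show psum κ' (t + 1) = t + 1 from psum_cut hκ' (i := ⟨t, ht⟩) ((hcut _).1 hi)]
      · rw [show psum κ (t + 1) = psum κ t from psum_noncut hκ (i := ⟨t, ht⟩) hi,
          show psum κ' (t + 1) = psum κ' t from psum_noncut hκ' (i := ⟨t, ht⟩) (fun e => hi ((hcut _).2 e))]
        exact ih (Nat.le_of_succ_le ht)
  refine Equiv.ext fun i => Fin.ext ?_
  have h1 := psum_succ κ i
  have h2 := psum_succ κ' i
  rw [hps _ (Nat.succ_le_of_lt i.isLt), hps _ i.isLt.le, h2] at h1
  have h3 := add_left_cancel h1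
  simp only [part] at h3
  have := hκ i
  have := hκ' i
  omega

theorem exists_perm : ∀ (b : ℕ), b < n → ∀ D : Finset ℕ, D ⊆ Finset.range b →
    ∃ κ : Equiv.Perm (Fin n), Good κ ∧ (∀ i : Fin n, ¬ (κ i).val ≤ i.val ↔ i.val ∈ D) ∧
      (∀ i : Fin n, b < i.val → κ i = i) ∧ (Equiv.Perm.sign κ : ℤ) = (-1) ^ D.card
  | 0, _, D, hD => by
    have : D = ∅ := Finset.subset_empty.1 (by simpa using hD)
    subst this
    exact ⟨1, fun i => by simp, fun i => by simp, fun i _ => rfl, by simp⟩
  | b + 1, hb, D, hD => by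
    have hDlt : ∀ x ∈ D, x ≤ b := fun x hx => Nat.le_of_lt_succ (Finset.mem_range.1 (hD hx))
    obtain ⟨κ, hκ, hD', hfix, hsign⟩ := exists_perm b (by omega) (D.erase b) (fun x hx => by
      rw [Finset.mem_erase] at hx
      have := hDlt x hx.2
      exact Finset.mem_range.2 (by omega))
    by_cases hbD : b ∈ D
    · set i₀ : Fin n := ⟨b, by omega⟩
      set i₁ : Fin n := ⟨b + 1, hb⟩
      have hne : i₀ ≠ i₁ := fun e => by simpa [i₀, i₁] using congrArg Fin.val e
      have h0 : ((κ * Equiv.swap i₀ i₁) i₀).val = b + 1 := by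
        rw [Equiv.Perm.mul_apply, Equiv.swap_apply_left, hfix i₁ (by simp [i₁])]
      have h1 : ((κ * Equiv.swap i₀ i₁) i₁).val ≤ b := by
        rw [Equiv.Perm.mul_apply, Equiv.swap_apply_right]
        have := hκ i₀
        have hne' : κ i₀ ≠ i₁ := fun e => hne (κ.injective (e.trans (hfix i₁ (by simp [i₁])).symm))
        have : (κ i₀).val ≠ b + 1 := fun e => hne' (Fin.ext e)
        simp only [i₀] at *
        omega
      have hoth : ∀ i, i ≠ i₀ → i ≠ i₁ → (κ * Equiv.swap i₀ i₁) i = κ i := fun i h h' => by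
        rw [Equiv.Perm.mul_apply, Equiv.swap_apply_of_ne_of_ne h h']
      refine ⟨κ * Equiv.swap i₀ i₁, fun i => ?_, fun i => ?_, fun i hi => ?_, ?_⟩
      · by_cases h : i = i₀
        · subst h; rw [h0]; simp only [i₀]; omega
        by_cases h' : i = i₁
        · subst h'; simp only [i₁] at h1 ⊢; omega
        · rw [hoth i h h']; exact hκ i
      · by_cases h : i = i₀
        · subst h; rw [h0]; simp [i₀, hbD]
        by_cases h' : i = i₁
        · subst h'
          have : (i₁ : Fin n).val ∉ D := fun hm => by have := hDlt _ hm; simp [i₁] at this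
          simp only [this, iff_false, not_not]
          simp only [i₁] at h1 ⊢
          omega
        · rw [hoth i h h', hD', Finset.mem_erase]
          exact ⟨fun e => e.2, fun e => ⟨fun e' => h (Fin.ext e'), e⟩⟩
      · rw [hoth i (fun e => by rw [e] at hi; simp [i₀] at hi) (fun e => by rw [e] at hi; simp [i₁] at hi)]
        exact hfix i (by omega)
      · rw [map_mul, Equiv.Perm.sign_swap hne, Units.val_mul, hsign, ← Finset.card_erase_add_one hbD, pow_succ]
        simp
    · rw [Finset.erase_eq_of_notMem hbD] at hD' hsign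
      exact ⟨κ, hκ, hD', fun i hi => hfix i (by omega), hsign⟩

theorem sign_eq {κ : Equiv.Perm (Fin n)} (hκ : Good κ) :
    ((Equiv.Perm.sign κ : ℤ) : ℂ) = (-1) ^ (n - 1) * (-1) ^ (dims κ).card := by
  rcases Nat.eq_zero_or_pos n with rfl | hn
  · rw [Subsingleton.elim κ 1]
    simp [dims]
  set D := (Finset.Ioo 0 n \ dims κ).image (fun k => k - 1) with hD
  have hmem : ∀ x, x ∈ D ↔ x + 1 < n ∧ x + 1 ∉ dims κ := fun x => by
    simp only [hD, Finset.mem_image, Finset.mem_sdiff, Finset.mem_Ioo]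
    constructor
    · rintro ⟨k, ⟨⟨h1, h2⟩, h3⟩, rfl⟩
      rw [show k - 1 + 1 = k by omega]
      exact ⟨h2, h3⟩
    · exact fun h => ⟨x + 1, ⟨⟨by omega, h.1⟩, h.2⟩, by omega⟩
  obtain ⟨κ', hκ', hD', -, hsign⟩ := exists_perm (n := n) (n - 1) (by omega) D (fun x hx => by
    have := ((hmem x).1 hx).1
    exact Finset.mem_range.2 (by omega))
  have : κ' = κ := dims_injective hκ' hκ (Finset.ext fun k => by
    constructor
    · intro hk
      obtain ⟨i, ⟨hi, hin⟩, rfl⟩ := mem_dims.1 hk
      by_contra hc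
      exact ((hD' i).2 ((hmem _).2 ⟨hin, hc⟩)) hi
    · intro hk
      obtain ⟨i, ⟨hi, hin⟩, rfl⟩ := mem_dims.1 hk
      refine mem_dims.2 ⟨i, ⟨?_, hin⟩, rfl⟩
      by_contra hc
      exact ((hmem _).1 ((hD' i).1 hc)).2 hk)
  subst this
  rw [hsign, hD, Finset.card_image_of_injOn (fun a ha b hb e => by
    simp only [Finset.coe_sdiff, Set.mem_diff, Finset.coe_Ioo, Set.mem_Ioo] at ha hb
    omega), Finset.card_sdiff_of_subset (dims_subset _), Nat.card_Ioo, Nat.sub_zero]
  push_cast
  have hle : (dims κ').card ≤ n - 1 := by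
    have := Finset.card_le_card (dims_subset κ')
    rwa [Nat.card_Ioo, Nat.sub_zero] at this
  rw [← pow_add, show n - 1 + (dims κ').card = (n - 1 - (dims κ').card) + 2 * (dims κ').card by omega, pow_add,
    pow_mul, neg_one_sq, one_pow, mul_one]

theorem exists_dims {K : Finset ℕ} (hK : K ⊆ Finset.Ioo 0 n) : ∃ κ : Equiv.Perm (Fin n), Good κ ∧ dims κ = K := by
  rcases Nat.eq_zero_or_pos n with rfl | hn
  · exact ⟨1, fun i => i.elim0, by rw [show K = ∅ from Finset.subset_empty.1 (by simpa using hK)]; simp [dims]⟩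
  obtain ⟨κ, hκ, hD, -, -⟩ := exists_perm (n := n) (n - 1) (by omega) ((Finset.range (n - 1)).filter fun x => x + 1 ∉ K)
    (Finset.filter_subset _ _)
  refine ⟨κ, hκ, Finset.ext fun k => ?_⟩
  constructor
  · intro hk
    obtain ⟨i, ⟨hi, hin⟩, rfl⟩ := mem_dims.1 hk
    by_contra hc
    exact ((hD i).2 (Finset.mem_filter.2 ⟨Finset.mem_range.2 (by omega), hc⟩)) hi
  · intro hk
    obtain ⟨h1, h2⟩ := Finset.mem_Ioo.1 (hK hk)
    refine mem_dims.2 ⟨⟨k - 1, by omega⟩, ⟨?_, by simp; omega⟩, by simp; omega⟩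
    by_contra hc
    have := (Finset.mem_filter.1 ((hD _).1 hc)).2
    rw [show k - 1 + 1 = k by omega] at this
    exact this hk

end Perms

section Chains

variable {F V : Type*} [Field F] [AddCommGroup V] [Module F V] [Finite V] [Fintype (Submodule F V)]

open scoped Classical in
/-- Chains of proper stable subspaces of `T`. -/
noncomputable def chains (g : V →ₗ[F] V) (T : Submodule F V) : Finset (Finset (Submodule F V)) :=
  (Finset.univ.filter fun Y => Stb g Y ∧ Y ≠ ⊥ ∧ Y < T).powerset.filter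
    fun C => ∀ Y ∈ C, ∀ Z ∈ C, Y ≤ Z ∨ Z ≤ Y

theorem mem_chains {g : V →ₗ[F] V} {T : Submodule F V} {C : Finset (Submodule F V)} :
    C ∈ chains g T ↔ (∀ Y ∈ C, Stb g Y ∧ Y ≠ ⊥ ∧ Y < T) ∧ ∀ Y ∈ C, ∀ Z ∈ C, Y ≤ Z ∨ Z ≤ Y := by
  simp [chains, Finset.subset_iff]

theorem mu_eq_chains {g : V →ₗ[F] V} : ∀ {T : Submodule F V}, Stb g T → T ≠ ⊥ →
    mu g ⊥ T = -∑ C ∈ chains g T, (-1 : ℤ) ^ C.card := by
  classical
  intro T
  induction T using (wf_lt (F := F) (V := V)).induction with
  | _ T ih =>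
    intro hT hT0
    set P := Finset.univ.filter fun Y => Stb g Y ∧ Y ≠ ⊥ ∧ Y < T with hP
    have hsplit : Finset.univ.filter (fun Y => Stb g Y ∧ ⊥ ≤ Y ∧ Y < T) = insert ⊥ P := by
      ext Y
      simp only [hP, Finset.mem_filter, Finset.mem_univ, true_and, Finset.mem_insert, bot_le]
      constructor
      · intro h
        by_cases e : Y = ⊥
        · exact Or.inl e
        · exact Or.inr ⟨h.1, e, h.2⟩
      · rintro (rfl | h)
        · exact ⟨stb_bot, bot_lt_iff_ne_bot.2 hT0⟩
        · exact ⟨h.1, h.2.2⟩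
    rw [mu_of_ne hT0, hsplit, Finset.sum_insert (by simp [hP]), mu_self]
    congr 1
    have hempty : (∅ : Finset (Submodule F V)) ∈ chains g T := mem_chains.2 ⟨by simp, by simp⟩
    rw [← Finset.add_sum_erase _ _ hempty, Finset.card_empty, pow_zero]
    congr 1
    have hY : ∀ Y ∈ P, mu g ⊥ Y = ∑ C ∈ chains g Y, (-1 : ℤ) ^ (C.card + 1) := fun Y hY => by
      simp only [hP, Finset.mem_filter, Finset.mem_univ, true_and] at hY
      rw [ih Y hY.2.2 hY.1 hY.2.1, ← Finset.sum_neg_distrib]
      exact Finset.sum_congr rfl fun C _ => by rw [pow_succ]; ring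
    rw [Finset.sum_congr rfl hY, Finset.sum_sigma']
    have htop : ∀ {Y : Submodule F V} {C}, C ∈ chains g Y → Y ∉ C := fun hC hm => lt_irrefl _ ((mem_chains.1 hC).1 _ hm).2.2
    refine Finset.sum_bij (fun p _ => insert p.1 p.2) (fun p hp => ?_) (fun p hp p' hp' e => ?_) (fun C hC => ?_)
      (fun p hp => by rw [Finset.card_insert_of_notMem (htop (Finset.mem_sigma.1 hp).2)])
    · obtain ⟨h1, h2⟩ := Finset.mem_sigma.1 hp
      simp only [hP, Finset.mem_filter, Finset.mem_univ, true_and] at h1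
      obtain ⟨h3, h4⟩ := mem_chains.1 h2
      refine Finset.mem_erase.2 ⟨Finset.insert_ne_empty _ _, mem_chains.2 ⟨fun Y hY => ?_, fun Y hY Z hZ => ?_⟩⟩
      · rcases Finset.mem_insert.1 hY with rfl | hY
        · exact h1
        · exact ⟨(h3 Y hY).1, (h3 Y hY).2.1, (h3 Y hY).2.2.trans h1.2.2⟩
      · rcases Finset.mem_insert.1 hY with rfl | hY <;> rcases Finset.mem_insert.1 hZ with rfl | hZ
        · exact Or.inl le_rfl
        · exact Or.inr (h3 Z hZ).2.2.le
        · exact Or.inl (h3 Y hY).2.2.le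
        · exact h4 Y hY Z hZ
    · obtain ⟨-, hp2⟩ := Finset.mem_sigma.1 hp
      obtain ⟨-, hp2'⟩ := Finset.mem_sigma.1 hp'
      have e1 : p.1 = p'.1 := by
        by_contra hne
        have a : p.1 ∈ insert p'.1 p'.2 := e ▸ Finset.mem_insert_self _ _
        have b : p'.1 ∈ insert p.1 p.2 := e.symm ▸ Finset.mem_insert_self _ _
        rw [Finset.mem_insert, or_iff_right hne] at a
        rw [Finset.mem_insert, or_iff_right (Ne.symm hne)] at b
        exact lt_asymm ((mem_chains.1 hp2').1 _ a).2.2 ((mem_chains.1 hp2).1 _ b).2.2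
      refine Sigma.ext e1 (heq_of_eq ?_)
      have := congrArg (fun C => C.erase p.1) e
      simp only [Finset.erase_insert (htop hp2)] at this
      rw [this, e1, Finset.erase_insert (htop hp2')]
    · obtain ⟨hne, hC⟩ := Finset.mem_erase.1 hC
      obtain ⟨h3, h4⟩ := mem_chains.1 hC
      obtain ⟨Y, hY, hmax⟩ := Finset.exists_max_image C (fun Y => Module.finrank F Y)
        (Finset.nonempty_iff_ne_empty.2 hne)
      haveI : Module.Finite F V := Module.Finite.of_finite
      have hle : ∀ Z ∈ C, Z ≠ Y → Z < Y := fun Z hZ hne' => by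
        rcases h4 Z hZ Y hY with h | h
        · exact lt_of_le_of_ne h hne'
        · exact absurd (Submodule.eq_of_le_of_finrank_le h (hmax Z hZ)).symm hne'
      refine ⟨⟨Y, C.erase Y⟩, Finset.mem_sigma.2 ⟨by simp [hP, h3 Y hY], mem_chains.2 ⟨fun Z hZ => ?_,
        fun Z hZ W hW => h4 Z (Finset.mem_of_mem_erase hZ) W (Finset.mem_of_mem_erase hW)⟩⟩, Finset.insert_erase hY⟩
      rw [Finset.mem_erase] at hZ
      exact ⟨(h3 Z hZ.2).1, (h3 Z hZ.2).2.1, hle Z hZ.2 hZ.1⟩

open scoped Classical in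
/-- A list of vectors adapted to a chain. -/
theorem exists_adapted : ∀ (T : Submodule F V) (C : Finset (Submodule F V)),
    (∀ Y ∈ C, Y < T) → (∀ Y ∈ C, ∀ Z ∈ C, Y ≤ Z ∨ Z ≤ Y) →
    ∃ v : ℕ → V, Submodule.span F (v '' Set.Iio (Module.finrank F T)) = T ∧
      ∀ Y ∈ C, Submodule.span F (v '' Set.Iio (Module.finrank F Y)) = Y := by
  haveI : Module.Finite F V := Module.Finite.of_finite
  intro T
  induction T using (wf_lt (F := F) (V := V)).induction with
  | _ T ih =>
    intro C hC hch
    obtain ⟨M, hMT, v, hv, hall⟩ : ∃ M ≤ T, ∃ v : ℕ → V,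
        Submodule.span F (v '' Set.Iio (Module.finrank F M)) = M ∧
        ∀ Y ∈ C, Y ≤ M ∧ Submodule.span F (v '' Set.Iio (Module.finrank F Y)) = Y := by
      rcases C.eq_empty_or_nonempty with rfl | hne
      · exact ⟨⊥, bot_le, 0, by rw [finrank_bot, show Set.Iio (0 : ℕ) = ∅ by simp, Set.image_empty,
          Submodule.span_empty], by simp⟩
      · obtain ⟨M, hM, hmax⟩ := Finset.exists_max_image C (fun Y => Module.finrank F Y) hne
        have hle : ∀ Y ∈ C, Y ≠ M → Y < M := fun Y hY hne' => by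
          rcases hch Y hY M hM with h | h
          · exact lt_of_le_of_ne h hne'
          · exact absurd (Submodule.eq_of_le_of_finrank_le h (hmax Y hY)).symm hne'
        obtain ⟨v, hv, hv'⟩ := ih M (hC M hM) (C.erase M)
          (fun Y hY => hle Y (Finset.mem_of_mem_erase hY) (Finset.ne_of_mem_erase hY))
          (fun Y hY Z hZ => hch Y (Finset.mem_of_mem_erase hY) Z (Finset.mem_of_mem_erase hZ))
        refine ⟨M, (hC M hM).le, v, hv, fun Y hY => ?_⟩
        by_cases e : Y = M
        · subst e; exact ⟨le_rfl, hv⟩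
        · exact ⟨(hle Y hY e).le, hv' Y (Finset.mem_erase.2 ⟨e, hY⟩)⟩
    obtain ⟨Q, hQ⟩ := Submodule.exists_isCompl M
    set R := Q ⊓ T
    have hMR : M ⊔ R = T := by rw [← sup_inf_assoc_of_le Q hMT, hQ.sup_eq_top, top_inf_eq]
    have hdim : Module.finrank F M + Module.finrank F R = Module.finrank F T := by
      have := Submodule.finrank_sup_add_finrank_inf_eq M R
      rw [hMR, show M ⊓ R = ⊥ from le_bot_iff.1 ((inf_le_inf_left M inf_le_left).trans hQ.inf_eq_bot.le),
        finrank_bot, add_zero] at this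
      exact this.symm
    set b := Module.finBasis F R
    let w : ℕ → V := fun k => if h : k < Module.finrank F M then v k else
      if h' : k - Module.finrank F M < Module.finrank F R then (b ⟨_, h'⟩ : V) else 0
    have hsame : ∀ d ≤ Module.finrank F M, w '' Set.Iio d = v '' Set.Iio d := fun d hd =>
      Set.image_congr fun k hk => by
        simp only [w]
        rw [dif_pos (lt_of_lt_of_le hk hd)]
    refine ⟨w, le_antisymm ?_ ?_, fun Y hY => ?_⟩
    · rw [Submodule.span_le]
      rintro _ ⟨k, -, rfl⟩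
      simp only [w]
      split_ifs with h h'
      · exact hMT (hv ▸ Submodule.subset_span ⟨k, h, rfl⟩)
      · exact (b _).2.2
      · exact T.zero_mem
    · conv_lhs => rw [← hMR]
      refine sup_le ?_ ?_
      · conv_lhs => rw [← hv, ← hsame _ le_rfl]
        exact Submodule.span_mono (Set.image_mono (Set.Iio_subset_Iio (by omega)))
      · intro x hx
        rw [show x = ∑ i, b.repr ⟨x, hx⟩ i • (b i : V) from by
          conv_lhs => rw [show x = ((⟨x, hx⟩ : R) : V) from rfl, ← b.sum_repr ⟨x, hx⟩]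
          simp only [Submodule.coe_sum, Submodule.coe_smul]]
        refine Submodule.sum_mem _ fun i _ => Submodule.smul_mem _ _ (Submodule.subset_span
          ⟨Module.finrank F M + i.val, by simp only [Set.mem_Iio]; have := i.isLt; omega, ?_⟩)
        simp only [w]
        rw [dif_neg (by omega), dif_pos (by have := i.isLt; omega)]
        congr
        simp
    · obtain ⟨hYM, hYs⟩ := hall Y hY
      rw [hsame _ (Submodule.finrank_mono hYM)]
      exact hYs

end Chains

section Flags

variable {F : Type*} [Field F] {n : ℕ}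

/-- The standard subspace of a given dimension. -/
def stdSub (F : Type*) [Field F] (n k : ℕ) : Submodule F (Fin n → F) where
  carrier := {v | ∀ i : Fin n, k ≤ i.val → v i = 0}
  add_mem' ha hb i hi := by simp [ha i hi, hb i hi]
  zero_mem' _ _ := rfl
  smul_mem' c a ha i hi := by simp [ha i hi]

theorem finrank_stdSub {k : ℕ} (hk : k ≤ n) : Module.finrank F (stdSub F n k) = k := by
  let e : stdSub F n k ≃ₗ[F] (Fin k → F) :=
    { toFun := fun v j => v.1 (Fin.castLE hk j)
      map_add' := fun _ _ => rfl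
      map_smul' := fun _ _ => rfl
      invFun := fun c => ⟨fun i => if h : i.val < k then c ⟨i.val, h⟩ else 0, fun i hi => dif_neg (by omega)⟩
      left_inv := fun v => Subtype.ext (funext fun i => by
        by_cases h : i.val < k
        · simp [h]
        · simp only [h, dite_false]; exact (v.2 i (by omega)).symm)
      right_inv := fun c => funext fun j => by simp }
  rw [e.finrank_eq, Module.finrank_fin_fun]

theorem mem_parabolic_iff_stable {κ : Equiv.Perm (Fin n)} (hκ : Good κ) (h : GL (Fin n) F) :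
    h ∈ Cfsg.parabolicGL n F (part κ) ↔
      ∀ k ∈ dims κ, Stb (Matrix.toLin' (h : Matrix (Fin n) (Fin n) F)) (stdSub F n k) := by
  rw [mem_parabolic hκ]
  constructor
  · intro hh k hk v hv i hi
    rw [Matrix.toLin'_apply, Matrix.mulVec, dotProduct]
    refine Finset.sum_eq_zero fun j _ => ?_
    by_cases hj : j.val < k
    · rw [hh k hk i j hj hi, zero_mul]
    · rw [hv j (by omega), mul_zero]
  · intro hh k hk i j hj hi
    have := hh k hk (Pi.single j 1) (fun i' hi' => Pi.single_eq_of_ne (fun e => by subst e; omega) _) i hi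
    rwa [Matrix.toLin'_apply, Matrix.mulVec_single_one] at this

variable [Finite F] [Fintype (Submodule F (Fin n → F))]

theorem card_fixed (g : GL (Fin n) F) {κ : Equiv.Perm (Fin n)} (hκ : Good κ) :
    Cfsg.fixedPointCharacter (Cfsg.parabolicGL n F (part κ)) g =
      ((((chains (Matrix.toLin' (g : Matrix (Fin n) (Fin n) F)) ⊤).filter fun C =>
        C.image (fun Y : Submodule F (Fin n → F) => Module.finrank F Y) = dims κ).card : ℕ) : ℂ) := by
  classical
  set P := Cfsg.parabolicGL n F (part κ) with hP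
  set L : GL (Fin n) F → ((Fin n → F) →ₗ[F] (Fin n → F)) := fun h => Matrix.toLin' (h : Matrix (Fin n) (Fin n) F)
  have hLmul : ∀ a b v, L (a * b) v = L a (L b v) := fun a b v => by
    simp [L, Matrix.mulVec_mulVec]
  have hLinv : ∀ a v, L a⁻¹ (L a v) = v := fun a v => by
    rw [← hLmul, inv_mul_cancel]; simp [L]
  have hLinv' : ∀ a v, L a (L a⁻¹ v) = v := fun a v => by
    rw [← hLmul, mul_inv_cancel]; simp [L]
  have hLinj : ∀ a, Function.Injective (L a) := fun a => Function.LeftInverse.injective (hLinv a)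
  set img : GL (Fin n) F → ℕ → Submodule F (Fin n → F) := fun h k => (stdSub F n k).map (L h) with himg
  have hkn : ∀ k ∈ dims κ, k ≤ n := fun k hk => (Finset.mem_Ioo.1 (dims_subset κ hk)).2.le
  have hfr : ∀ h, ∀ k ∈ dims κ, Module.finrank F (img h k) = k := fun h k hk => by
    rw [himg, (Submodule.equivMapOfInjective _ (hLinj h) _).symm.finrank_eq, finrank_stdSub (hkn k hk)]
  have hmemP : ∀ h h' : GL (Fin n) F, h⁻¹ * h' ∈ P ↔ ∀ k ∈ dims κ, img h' k = img h k := fun h h' => by
    rw [hP, mem_parabolic_iff_stable hκ]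
    refine forall₂_congr fun k hk => ⟨fun hs => ?_, fun he v hv => ?_⟩
    · refine Submodule.eq_of_le_of_finrank_le ?_ (by rw [hfr h k hk, hfr h' k hk])
      rintro _ ⟨v, hv, rfl⟩
      exact ⟨L (h⁻¹ * h') v, hs v hv, by rw [← hLmul, mul_inv_cancel_left]⟩
    · obtain ⟨u, hu, e⟩ : L h' v ∈ img h k := he ▸ Submodule.mem_map_of_mem hv
      show L (h⁻¹ * h') v ∈ _
      rw [hLmul, ← e, hLinv]
      exact hu
  have hfix : ∀ h : GL (Fin n) F, g • (h : GL (Fin n) F ⧸ P) = h ↔ ∀ k ∈ dims κ, Stb (L g) (img h k) := fun h => by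
    rw [MulAction.Quotient.smul_coe, eq_comm, QuotientGroup.eq, hmemP]
    refine forall₂_congr fun k hk => ?_
    have e : img (g * h) k = (img h k).map (L g) := by
      show (stdSub F n k).map (L (g * h)) = ((stdSub F n k).map (L h)).map (L g)
      rw [← Submodule.map_comp, show L (g * h) = (L g).comp (L h) from LinearMap.ext fun v => hLmul g h v]
    rw [show g • h = g * h from rfl, e]
    constructor
    · intro e' x hx
      rw [← e']
      exact Submodule.mem_map_of_mem hx
    · intro hs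
      refine Submodule.eq_of_le_of_finrank_le ?_ (by rw [← e, hfr _ k hk, hfr _ k hk])
      rintro _ ⟨x, hx, rfl⟩
      exact hs x hx
  have hmem : ∀ h : GL (Fin n) F, (∀ k ∈ dims κ, Stb (L g) (img h k)) →
      (dims κ).image (img h) ∈ (chains (L g) ⊤).filter fun C => C.image (fun Y : Submodule F (Fin n → F) => Module.finrank F Y) = dims κ := by
    intro h hs
    refine Finset.mem_filter.2 ⟨mem_chains.2 ⟨fun Y hY => ?_, fun Y hY Z hZ => ?_⟩, ?_⟩
    · obtain ⟨k, hk, rfl⟩ := Finset.mem_image.1 hY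
      obtain ⟨h0, h1⟩ := Finset.mem_Ioo.1 (dims_subset κ hk)
      refine ⟨hs k hk, fun e => ?_, lt_top_iff_ne_top.2 fun e => ?_⟩ <;>
        · have := hfr h k hk
          rw [e] at this
          simp only [finrank_bot, finrank_top, Module.finrank_fin_fun] at this
          omega
    · obtain ⟨k, -, rfl⟩ := Finset.mem_image.1 hY
      obtain ⟨l, -, rfl⟩ := Finset.mem_image.1 hZ
      have hmono : ∀ a b, a ≤ b → img h a ≤ img h b := fun a b hab =>
        Submodule.map_mono fun v hv i hi => hv i (le_trans hab hi)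
      rcases le_total k l with h | h
      · exact Or.inl (hmono _ _ h)
      · exact Or.inr (hmono _ _ h)
    · rw [Finset.image_image]
      exact (Finset.image_congr fun k hk => hfr h k hk).trans Finset.image_id'
  have huniq : ∀ C ∈ chains (L g) ⊤, ∀ Y ∈ C, ∀ Z ∈ C, Module.finrank F Y = Module.finrank F Z → Y = Z := by
    intro C hC Y hY Z hZ e
    rcases (mem_chains.1 hC).2 Y hY Z hZ with h | h
    · exact Submodule.eq_of_le_of_finrank_eq h e
    · exact (Submodule.eq_of_le_of_finrank_eq h e.symm).symm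
  have hout : ∀ x : GL (Fin n) F ⧸ P, x ∈ MulAction.fixedBy (GL (Fin n) F ⧸ P) g →
      ∀ k ∈ dims κ, Stb (L g) (img x.out k) := fun x hx =>
    (hfix x.out).1 (by rw [QuotientGroup.out_eq']; exact hx)
  rw [Cfsg.fixedPointCharacter, ← Nat.card_eq_finsetCard]
  congr 1
  refine Nat.card_congr (Equiv.ofBijective (fun x => ⟨(dims κ).image (img x.1.out), hmem _ (hout x.1 x.2)⟩)
    ⟨fun x y e => ?_, fun C => ?_⟩)
  · have e' : (dims κ).image (img x.1.out) = (dims κ).image (img y.1.out) := congrArg Subtype.val e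
    refine Subtype.ext ?_
    rw [← QuotientGroup.out_eq' x.1, ← QuotientGroup.out_eq' y.1, QuotientGroup.eq, hmemP]
    intro k hk
    obtain ⟨l, hl, hle⟩ := Finset.mem_image.1 (e' ▸ Finset.mem_image_of_mem _ hk : img x.1.out k ∈ (dims κ).image (img y.1.out))
    have hkl : l = k := by rw [← hfr y.1.out l hl, hle, hfr x.1.out k hk]
    rw [← hle, hkl]
  · obtain ⟨C, hC⟩ := C
    obtain ⟨hC1, hC2⟩ := Finset.mem_filter.1 hC
    obtain ⟨h3, h4⟩ := mem_chains.1 hC1
    obtain ⟨v, hv, hvC⟩ := exists_adapted ⊤ C (fun Y hY => (h3 Y hY).2.2) h4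
    let M : Matrix (Fin n) (Fin n) F := Matrix.of fun i j => v j.val i
    have hMv : ∀ x, Matrix.toLin' M x = ∑ j : Fin n, x j • v j.val := fun x => funext fun i => by
      simp [M, Matrix.mulVec, dotProduct, mul_comm]
    have hsurj : Function.Surjective (Matrix.toLin' M) := by
      rw [← LinearMap.range_eq_top, eq_top_iff, ← hv, Submodule.span_le]
      rintro _ ⟨k, hk, rfl⟩
      rw [finrank_top, Module.finrank_fin_fun, Set.mem_Iio] at hk
      exact ⟨Pi.single ⟨k, hk⟩ 1, by rw [hMv, Finset.sum_eq_single ⟨k, hk⟩] <;> simp +contextual [Pi.single_apply]⟩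
    have hM : IsUnit M := Matrix.mulVec_surjective_iff_isUnit.1 fun y => by
      obtain ⟨x, hx⟩ := hsurj y
      exact ⟨x, hx⟩
    obtain ⟨h, hh⟩ := hM
    have himgC : ∀ Y ∈ C, img h (Module.finrank F Y) = Y := fun Y hY => by
      have hk : Module.finrank F Y ∈ dims κ := hC2 ▸ Finset.mem_image_of_mem _ hY
      refine Submodule.eq_of_le_of_finrank_le ?_ (by rw [hfr h _ hk])
      rintro _ ⟨x, hx, rfl⟩
      show Matrix.toLin' (h : Matrix (Fin n) (Fin n) F) x ∈ Y
      rw [hh, hMv]
      refine Submodule.sum_mem _ fun j _ => ?_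
      by_cases hj : j.val < Module.finrank F Y
      · exact Submodule.smul_mem _ _ (hvC Y hY ▸ Submodule.subset_span ⟨j.val, hj, rfl⟩)
      · rw [hx j (by omega), zero_smul]; exact Y.zero_mem
    have hall : ∀ k ∈ dims κ, ∃ Y ∈ C, Module.finrank F Y = k ∧ img h k = Y := fun k hk => by
      rw [← hC2] at hk
      obtain ⟨Y, hY, rfl⟩ := Finset.mem_image.1 hk
      exact ⟨Y, hY, rfl, himgC Y hY⟩
    have hxfix : g • (h : GL (Fin n) F ⧸ P) = h := (hfix h).2 fun k hk => by
      obtain ⟨Y, hY, -, e⟩ := hall k hk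
      rw [e]
      exact (h3 Y hY).1
    refine ⟨⟨(h : GL (Fin n) F ⧸ P), hxfix⟩, Subtype.ext ?_⟩
    have heq : ∀ k ∈ dims κ, img (h : GL (Fin n) F ⧸ P).out k = img h k := (hmemP _ _).1 (by
      rw [← QuotientGroup.eq, QuotientGroup.out_eq'])
    ext Y
    simp only [Finset.mem_image]
    constructor
    · rintro ⟨k, hk, rfl⟩
      obtain ⟨Z, hZ, -, e⟩ := hall k hk
      rw [heq k hk, e]
      exact hZ
    · intro hY
      have hk : Module.finrank F Y ∈ dims κ := hC2 ▸ Finset.mem_image_of_mem _ hY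
      exact ⟨_, hk, (heq _ hk).trans (himgC Y hY)⟩

/-- The Steinberg character as a Moebius number. -/
theorem steinberg_eq_mu (g : GL (Fin n) F) :
    Cfsg.unipotentCharacterGL n F (fun _ => 1) g =
      ((-1 : ℂ) ^ n) * (mu (Matrix.toLin' (g : Matrix (Fin n) (Fin n) F)) ⊥ ⊤ : ℤ) := by
  classical
  set L := Matrix.toLin' (g : Matrix (Fin n) (Fin n) F)
  rcases Nat.eq_zero_or_pos n with rfl | hn
  · have hbt : (⊤ : Submodule F (Fin 0 → F)) = ⊥ := Subsingleton.elim _ _
    rw [hbt, mu_self, Cfsg.unipotentCharacterGL]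
    simp only [Finset.univ_unique, Finset.sum_singleton]
    rw [if_pos (fun i => i.elim0), Cfsg.fixedPointCharacter]
    haveI : Subsingleton (GL (Fin 0) F) := ⟨fun a b => Units.ext (Subsingleton.elim _ _)⟩
    haveI : Subsingleton (GL (Fin 0) F ⧸ Cfsg.parabolicGL 0 F fun i => 1 + i.val - ((default : Equiv.Perm (Fin 0)) i).val) :=
      (QuotientGroup.mk_surjective).subsingleton
    rw [show MulAction.fixedBy _ g = Set.univ from Set.eq_univ_of_forall fun x => Subsingleton.elim _ _,
      Nat.card_univ, Nat.card_unique]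
    simp
  have hT : (⊤ : Submodule F (Fin n → F)) ≠ ⊥ := fun e => by
    have := congrArg (fun S : Submodule F (Fin n → F) => Module.finrank F S) e
    simp only [finrank_top, finrank_bot, Module.finrank_fin_fun] at this
    omega
  rw [mu_eq_chains (fun x _ => Submodule.mem_top) hT]
  unfold Cfsg.unipotentCharacterGL
  rw [← Finset.sum_filter]
  have hcongr : ∀ κ ∈ Finset.univ.filter (fun κ : Equiv.Perm (Fin n) => ∀ i : Fin n, (κ i).val ≤ 1 + i.val),
      ((Equiv.Perm.sign κ : ℤ) : ℂ) * Cfsg.fixedPointCharacter (Cfsg.parabolicGL n F fun i => 1 + i.val - (κ i).val) g =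
        ∑ C ∈ (chains L ⊤).filter (fun C => C.image (fun Y : Submodule F (Fin n → F) => Module.finrank F Y) = dims κ),
          ((-1 : ℂ) ^ (n - 1) * (-1) ^ C.card) := by
    intro κ hκ
    have hκ' : Good κ := (Finset.mem_filter.1 hκ).2
    rw [show (fun i => 1 + i.val - (κ i).val) = part κ from rfl, card_fixed g hκ', sign_eq hκ',
      mul_comm, ← nsmul_eq_mul, ← Finset.sum_const]
    refine Finset.sum_congr rfl fun C hC => ?_
    obtain ⟨hC1, hC2⟩ := Finset.mem_filter.1 hC
    rw [← hC2, Finset.card_image_of_injOn fun Y hY Z hZ e => ?_]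
    rcases (mem_chains.1 hC1).2 Y hY Z hZ with h | h
    · exact Submodule.eq_of_le_of_finrank_eq h e
    · exact (Submodule.eq_of_le_of_finrank_eq h e.symm).symm
  refine (Finset.sum_congr rfl hcongr).trans ?_
  have hbij : ∑ κ ∈ Finset.univ.filter (fun κ : Equiv.Perm (Fin n) => ∀ i : Fin n, (κ i).val ≤ 1 + i.val),
      ∑ C ∈ (chains L ⊤).filter (fun C => C.image (fun Y : Submodule F (Fin n → F) => Module.finrank F Y) = dims κ),
        ((-1 : ℂ) ^ (n - 1) * (-1) ^ C.card) =
      ∑ K ∈ (Finset.Ioo 0 n).powerset,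
      ∑ C ∈ (chains L ⊤).filter (fun C => C.image (fun Y : Submodule F (Fin n → F) => Module.finrank F Y) = K),
        ((-1 : ℂ) ^ (n - 1) * (-1) ^ C.card) := by
    refine Finset.sum_bij (fun κ _ => dims κ) (fun κ _ => Finset.mem_powerset.2 (dims_subset κ))
      (fun κ hκ κ' hκ' e => dims_injective (Finset.mem_filter.1 hκ).2 (Finset.mem_filter.1 hκ').2 e)
      (fun K hK => ?_) (fun _ _ => rfl)
    obtain ⟨κ, hκ, e⟩ := exists_dims (n := n) (Finset.mem_powerset.1 hK)
    exact ⟨κ, Finset.mem_filter.2 ⟨Finset.mem_univ _, hκ⟩, e⟩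
  rw [hbij, Finset.sum_fiberwise_of_maps_to (fun C hC => Finset.mem_powerset.2 fun k hk => ?_), ← Finset.mul_sum]
  · push_cast
    rw [show ((-1 : ℂ) ^ n) = (-1) ^ (n - 1) * (-1) by rw [← pow_succ, show n - 1 + 1 = n by omega]]
    ring
  · obtain ⟨Y, hY, rfl⟩ := Finset.mem_image.1 hk
    obtain ⟨-, h0, h1⟩ := (mem_chains.1 hC).1 Y hY
    refine Finset.mem_Ioo.2 ⟨Nat.pos_of_ne_zero fun e => h0 (Submodule.finrank_eq_zero.1 e), ?_⟩
    have := Submodule.finrank_lt_finrank_of_lt h1
    rwa [finrank_top, Module.finrank_fin_fun] at this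

end Flags

end Cfsg.Agent.GLUnipotent.StChains
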