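import Cfsg.Agent.Lib.GLUnipotent.Degree
import Cfsg.Agent.Lib.CT.Degree
import Cfsg.Agent.Lib.Chev.SteinbergIrr

/-!
The Steinberg character of `GL_n` restricts irreducibly to `SL_n` and is trivial on the scalars.
-/

set_option autoImplicit false
set_option linter.style.haveILetI false

namespace Cfsg.Agent.GLUnipotent

open Matrix

/-- An irreducible character of `p`-power degree stays irreducible on a normal subgroup of prime-to-`p` index. -/
theorem isIrr_restrict_of_coprime {G : Type*} [Group G] [Finite G] (N : Subgroup G) [N.Normal] {χ : G → ℂ}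
    (hχ : Cfsg.IsIrrCharacter G χ) {d : ℕ} (hd : χ 1 = (d : ℂ)) (hco : d.Coprime N.index) :
    Cfsg.IsIrrCharacter N (fun x : N => χ x) := by
  classical
  haveI := Fintype.ofFinite G
  haveI := Fintype.ofFinite N
  obtain ⟨φ, hφ⟩ := CT.exists_constituent_restrict N hχ
  obtain ⟨k, hk, hkd⟩ := CT.deg_ratio_dvd_index N hχ φ.2 hφ
  have hdd : CT.deg χ = d := by
    have := CT.deg_eq (CT.isCharacter_of_isIrr hχ)
    rw [hd] at this
    exact_mod_cast this.symm
  have hk1 : k = 1 := Nat.eq_one_of_dvd_coprimes hco ⟨_, hdd ▸ hk⟩ hkd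
  set θ : N → ℂ := fun x : N => χ x with hθdef
  have hθ : Cfsg.IsCharacter N θ := CT.isCharacter_restrict N (CT.isCharacter_of_isIrr hχ)
  have hdeg : CT.deg θ = CT.deg (φ : N → ℂ) := by
    rw [hk1, one_mul] at hk
    rw [← hk]
    rfl
  have hm0 : CT.mult θ φ ≠ 0 := fun h => hφ (by
    rw [CT.mult_spec hθ (CT.isCharacter_of_isIrr φ.2), h, Nat.cast_zero])
  have hsum := CT.character_eq_sum hθ
  have hval := congrFun hsum 1
  rw [CT.deg_eq hθ, Finset.sum_apply] at hval
  simp only [Pi.smul_apply, smul_eq_mul] at hval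
  rw [Finset.sum_congr rfl fun (c : Cfsg.IrrCharacter N) _ => by
    rw [CT.deg_eq (CT.isCharacter_of_isIrr c.2)]] at hval
  have hnat : CT.deg θ = ∑ c : Cfsg.IrrCharacter N, CT.mult θ c * CT.deg (c : N → ℂ) := by
    exact_mod_cast hval
  rw [← Finset.add_sum_erase _ _ (Finset.mem_univ φ), hdeg] at hnat
  have hφpos := CT.deg_pos φ.2
  have hle : CT.deg (φ : N → ℂ) ≤ CT.mult θ φ * CT.deg (φ : N → ℂ) :=
    Nat.le_mul_of_pos_left _ (Nat.pos_of_ne_zero hm0)
  have hzero : ∀ c ∈ Finset.univ.erase φ, CT.mult θ c = 0 := fun c hc => by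
    have h0 : ∑ c ∈ Finset.univ.erase φ, CT.mult θ c * CT.deg (c : N → ℂ) = 0 := by omega
    rcases mul_eq_zero.1 ((Finset.sum_eq_zero_iff.1 h0) c hc) with h | h
    · exact h
    · exact absurd h (CT.deg_pos c.2).ne'
  have hone : CT.mult θ φ = 1 := by
    have h0 : ∑ c ∈ Finset.univ.erase φ, CT.mult θ c * CT.deg (c : N → ℂ) = 0 :=
      Finset.sum_eq_zero fun c hc => by rw [hzero c hc, zero_mul]
    rw [h0, add_zero] at hnat
    exact (Nat.eq_of_mul_eq_mul_right hφpos ((one_mul _).trans hnat)).symm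
  rw [show θ = (φ : N → ℂ) from by
    conv_lhs => rw [hsum]
    rw [Finset.sum_eq_single φ (fun c _ hc => by
      rw [hzero c (Finset.mem_erase.2 ⟨hc, Finset.mem_univ _⟩), Nat.cast_zero, zero_smul]) (by simp),
      hone, Nat.cast_one, one_smul]]
  exact φ.2

variable {F : Type*} [Field F] [Fintype F] {n : ℕ}

omit [Fintype F] in
theorem flag_scalar {z g : GL (Fin n) F} (hz : ∀ i j, i ≠ j → (z : Matrix (Fin n) (Fin n) F) i j = 0)
    (hc : ∀ g : GL (Fin n) F, z * g = g * z) (μ : Fin n → ℕ) :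
    Cfsg.fixedPointCharacter (Cfsg.parabolicGL n F μ) (g * z) =
      Cfsg.fixedPointCharacter (Cfsg.parabolicGL n F μ) g := by
  have hmem : z ∈ Cfsg.parabolicGL n F μ := fun i j hij => hz i j fun e => by
    rw [e] at hij
    exact lt_irrefl _ hij
  have hfix : ∀ y : GL (Fin n) F ⧸ Cfsg.parabolicGL n F μ, z • y = y := fun y => by
    induction y using QuotientGroup.induction_on with
    | _ a =>
      show QuotientGroup.mk (z * a) = _
      rw [hc a, QuotientGroup.mk_mul_of_mem a hmem]
  unfold Cfsg.fixedPointCharacter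
  congr 1
  refine Nat.card_congr (Equiv.subtypeEquivRight fun y => ?_)
  rw [MulAction.mem_fixedBy, MulAction.mem_fixedBy, mul_smul, hfix]

theorem steinberg_scalar {z : GL (Fin n) F} (hz : ∀ i j, i ≠ j → (z : Matrix (Fin n) (Fin n) F) i j = 0)
    (hc : ∀ g : GL (Fin n) F, z * g = g * z) :
    Cfsg.unipotentCharacterGL n F (fun _ => 1) z = Cfsg.unipotentCharacterGL n F (fun _ => 1) 1 := by
  unfold Cfsg.unipotentCharacterGL
  refine Finset.sum_congr rfl fun κ _ => ?_
  conv_lhs => rw [← one_mul z, flag_scalar hz hc]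

/-- The Steinberg character of `PSL_n(q)`. -/
theorem steinberg_psl (p : ℕ) [Fact p.Prime] [CharP F p] (hn : 2 ≤ n) :
    ∃ χ : Matrix.ProjectiveSpecialLinearGroup (Fin n) F → ℂ,
      Cfsg.IsIrrCharacter (Matrix.ProjectiveSpecialLinearGroup (Fin n) F) χ ∧
      ∀ P : Sylow p (Matrix.ProjectiveSpecialLinearGroup (Fin n) F), χ 1 = Nat.card P ∧
        ∀ x : Matrix.ProjectiveSpecialLinearGroup (Fin n) F, x ∈ P → x ≠ 1 → χ x = 0 := by
  classical
  obtain ⟨f, hp, hqf⟩ := FiniteField.card F p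
  set q := Fintype.card F with hq
  set d := q ^ n.choose 2 with hd
  have hdp : d = p ^ ((f : ℕ) * n.choose 2) := by rw [hd, hqf, ← pow_mul]
  have hq1 : 1 < q := Fintype.one_lt_card
  have hqp : p ∣ q := hqf ▸ dvd_pow_self p f.pos.ne'
  have hnq : ¬ p ∣ q - 1 := fun h => hp.one_lt.ne' (Nat.dvd_one.1 (by
    have := Nat.dvd_sub hqp h
    rwa [show q - (q - 1) = 1 by omega] at this))
  have hStirr := isIrr_unipotent (F := F) (ν := fun _ : Fin n => 1) monotone_const (by simp)
  have hdeg := steinberg_degree (F := F) hq.symm n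
  set St := Cfsg.unipotentCharacterGL n F (fun _ => 1) with hSt
  let e : Matrix.SpecialLinearGroup (Fin n) F →* GL (Fin n) F := Matrix.SpecialLinearGroup.toGL
  have hinj : Function.Injective e := fun a b h =>
    Subtype.ext (congrArg (fun g : GL (Fin n) F => (g : Matrix (Fin n) (Fin n) F)) h)
  have hrange : e.range = (Matrix.GeneralLinearGroup.det : GL (Fin n) F →* Fˣ).ker := by
    ext g
    constructor
    · rintro ⟨a, rfl⟩
      exact MonoidHom.mem_ker.2 (Units.ext a.2)
    · intro hg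
      exact ⟨⟨g, congrArg Units.val (MonoidHom.mem_ker.1 hg)⟩, Units.ext rfl⟩
  haveI : (e.range).Normal := hrange ▸ inferInstance
  have hdet : Function.Surjective (Matrix.GeneralLinearGroup.det : GL (Fin n) F →* Fˣ) := fun u => by
    haveI : NeZero n := ⟨by omega⟩
    refine ⟨Matrix.GeneralLinearGroup.mkOfDetNeZero
      (Matrix.diagonal (Function.update (1 : Fin n → F) 0 (u : F))) ?_, Units.ext ?_⟩
    · rw [Matrix.det_diagonal, Finset.prod_update_of_mem (Finset.mem_univ _)]
      simp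
    · show Matrix.det _ = _
      simp [Matrix.det_diagonal, Finset.prod_update_of_mem]
  have hindex : e.range.index = q - 1 := by
    rw [hrange, Subgroup.index_ker, MonoidHom.range_eq_top.2 hdet, Subgroup.card_top, Nat.card_units,
      Nat.card_eq_fintype_card]
  have hres := isIrr_restrict_of_coprime e.range hStirr hdeg (by
    rw [hindex]
    show d.Coprime (q - 1)
    rw [hdp]
    exact Nat.Coprime.pow_left _ (hp.coprime_iff_not_dvd.2 hnq))
  have hSL : Cfsg.IsIrrCharacter (Matrix.SpecialLinearGroup (Fin n) F) (fun a => St (e a)) :=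
    CT.isIrrCharacter_comp e.rangeRestrict e.rangeRestrict_surjective hres
  obtain ⟨χ, hχ, hval⟩ := CT.exists_quotient_irr hSL (Subgroup.center (Matrix.SpecialLinearGroup (Fin n) F))
    (fun z hz => by
      obtain ⟨r, -, hr⟩ := Matrix.SpecialLinearGroup.mem_center_iff.1 hz
      have hz' : ∀ i j, i ≠ j → (e z : Matrix (Fin n) (Fin n) F) i j = 0 := fun i j hij => by
        show (z : Matrix (Fin n) (Fin n) F) i j = 0
        rw [← hr, Matrix.scalar_apply, Matrix.diagonal_apply_ne _ hij]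
      show St (e z) = St (e 1)
      rw [map_one, hSt]
      refine steinberg_scalar hz' fun g => Units.ext ?_
      show (z : Matrix (Fin n) (Fin n) F) * g.1 = g.1 * (z : Matrix (Fin n) (Fin n) F)
      rw [← hr]
      exact (Matrix.scalar_commute _ (fun _ => Commute.all _ _) _).eq)
  have h1 : χ 1 = (d : ℂ) := by
    rw [← QuotientGroup.mk_one, hval, map_one]
    exact hdeg
  set G := Matrix.ProjectiveSpecialLinearGroup (Fin n) F
  -- the order of the group
  have hGL : Nat.card (GL (Fin n) F) = d * ((q - 1) ^ n * ∏ j ∈ Finset.range n,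
      ∑ l ∈ Finset.range (j + 1), q ^ l) := by
    rw [Matrix.card_GL_field, S2420.prod_formula q hq1.le, mul_assoc]
  have hprod : Nat.card G * (Nat.card (Subgroup.center (Matrix.SpecialLinearGroup (Fin n) F)) * (q - 1)) =
      Nat.card (GL (Fin n) F) := by
    rw [← mul_assoc, ← Subgroup.card_eq_card_quotient_mul_card_subgroup,
      Nat.card_congr (MonoidHom.ofInjective hinj).toEquiv, ← hindex, Subgroup.card_mul_index]
  have hR : ¬ p ∣ (q - 1) ^ n * ∏ j ∈ Finset.range n, ∑ l ∈ Finset.range (j + 1), q ^ l := by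
    intro h
    rcases hp.dvd_mul.1 h with h | h
    · exact hnq (hp.dvd_of_dvd_pow h)
    · obtain ⟨j, -, hj⟩ := (Prime.dvd_finsetProd_iff hp.prime _).1 h
      rw [Finset.sum_range_succ', pow_zero] at hj
      exact hp.one_lt.ne' (Nat.dvd_one.1 ((Nat.dvd_add_right (Finset.dvd_sum fun l _ =>
        hqp.trans (dvd_pow_self q (Nat.succ_ne_zero l)))).1 hj))
  rw [hGL] at hprod
  have hnot : ¬ p ∣ Nat.card (Subgroup.center (Matrix.SpecialLinearGroup (Fin n) F)) * (q - 1) := by
    intro h
    rcases hp.dvd_mul.1 h with h | h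
    · obtain ⟨z, hz⟩ := exists_prime_orderOf_dvd_card' p h
      obtain ⟨r, hr1, hr⟩ := Matrix.SpecialLinearGroup.mem_center_iff.1 z.2
      have hzp : (z.1 : Matrix (Fin n) (Fin n) F) ^ p = 1 := by
        rw [← Matrix.SpecialLinearGroup.coe_pow, ← Subgroup.coe_pow, ← hz, pow_orderOf_eq_one]
        rfl
      haveI : NeZero n := ⟨by omega⟩
      rw [← hr, ← map_pow, ← map_one (Matrix.scalar (Fin n))] at hzp
      have hrp : r ^ p = 1 := Matrix.scalar_inj.1 hzp
      have hr1' : r = 1 := by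
        have h0 : (r - 1) ^ p = 0 := by rw [sub_pow_char, hrp, one_pow, sub_self]
        exact sub_eq_zero.1 (pow_eq_zero_iff hp.ne_zero |>.1 h0)
      have : z = 1 := by
        apply Subtype.ext
        apply Subtype.ext
        rw [← hr, hr1', map_one]
        rfl
      rw [this, orderOf_one] at hz
      exact hp.one_lt.ne hz
    · exact hnq h
  obtain ⟨m, hm⟩ : d ∣ Nat.card G :=
    (Nat.Coprime.dvd_of_dvd_mul_right (by
      rw [hdp]; exact Nat.Coprime.pow_left _ (hp.coprime_iff_not_dvd.2 hnot)) ⟨_, hprod⟩)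
  have hd0 : 0 < d := by rw [hd]; positivity
  have hpm : ¬ p ∣ m := fun h => hR (by
    rw [hm, mul_assoc] at hprod
    rw [← Nat.eq_of_mul_eq_mul_left hd0 hprod]
    exact h.mul_right _)
  refine ⟨χ, hχ, fun P => ?_⟩
  have hP : Nat.card P = d := by
    rw [P.card_eq_multiplicity, hm, hdp, Nat.factorization_mul (pow_ne_zero _ hp.ne_zero)
      (fun h => hpm (by rw [h]; exact dvd_zero p)), Finsupp.add_apply, hp.factorization_pow, Finsupp.single_eq_same,
      Nat.factorization_eq_zero_of_not_dvd hpm, add_zero]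
  refine ⟨by rw [hP]; exact h1, fun x hx hx1 => ?_⟩
  refine Chev.irr_vanish_of_defect_zero hχ h1 hm hpm ?_
  obtain ⟨k, hk⟩ := P.2 ⟨x, hx⟩
  have hord : orderOf x ∣ p ^ k := orderOf_dvd_of_pow_eq_one (congrArg Subtype.val hk)
  obtain ⟨i, -, hi⟩ := (Nat.dvd_prime_pow hp).1 hord
  rcases i with _ | i
  · rw [pow_zero] at hi
    exact absurd (orderOf_eq_one_iff.1 hi) hx1
  · exact hi ▸ dvd_pow_self p (Nat.succ_ne_zero i)

end Cfsg.Agent.GLUnipotent
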